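import Groth.Agent.L07.DDAff.Diag
import Groth.Agent.L07.ExtShAff.HopfObl

/-!
# Local characters from units
-/

universe u

open CategoryTheory CategoryTheory.Limits AlgebraicGeometry Opposite TensorProduct
open MonoidalCategory CartesianMonoidalCategory
open scoped MonObj
open Groth.L07.GaExt (fn fn_comp)
open Groth.L07.GaDD (uG uG_add uG_zero uG_map uG_injective sG uG_sG)
open Groth.L07.ExtShAff (prodSP prod2 em em_bijective fn_spA spA_comp ev1 ev2 mulPt onePt lift1_eq lift2_eq)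
open Groth.L07.DDAff (cval cval_ext exists_repr)
open Groth.L08.DoubleDual (restr)
open Groth.L08.TorusQuot (SP spA toPt ofPt toPt_ofPt toPt_post)
open Groth.L25.Bridge (P)
open Algebra.TensorProduct (includeLeft includeRight)
open WithConv

set_option autoImplicit false
set_option backward.defeqAttrib.useBackward true
set_option backward.isDefEq.respectTransparency false
set_option backward.isDefEq.respectTransparency.types false
set_option linter.style.haveILetI false
set_option maxHeartbeats 1000000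
set_option synthInstance.maxHeartbeats 200000

noncomputable section

namespace Groth.L07.Almost

local notation "Kf" => Scheme.fppfPrecoverage

variable {k : Type u} [Field k] {B : Type u} [CommRing B] [HopfAlgebra k B] [Coalgebra.IsCocomm k B]
  {R : Type u} [CommRing R] [Algebra k R]

local notation "Sk" => Spec (CommRingCat.of k)

variable (k B) in
/-- a unit which is group-like in the functorial sense -/
def IsCharUnit {R : Type u} [CommRing R] [Algebra k R] (f : R ⊗[k] B) : Prop :=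
  ∀ (A : Type u) [CommRing A] [Algebra k A] (φ : R →ₐ[k] A) (x y : B →ₐ[k] A),
    ev1 φ (mulPt x y) f = ev1 φ x f * ev1 φ y f

/-- the value at a pair of sections -/
def valU (f : (R ⊗[k] B)ˣ) {W : Over Sk} (a : W ⟶ SP k R) (x : W ⟶ P k B) : Γ(W.left, ⊤)ˣ :=
  Units.map (fn (lift a x ≫ inv (prodSP k R B))).hom.toMonoidHom (Units.map (em (R ⊗[k] B)).toMonoidHom f)

theorem valU_coe (f : (R ⊗[k] B)ˣ) {W : Over Sk} (a : W ⟶ SP k R) (x : W ⟶ P k B) :
    (valU f a x : Γ(W.left, ⊤)) = fn (lift a x ≫ inv (prodSP k R B)) (em (R ⊗[k] B) f) := rfl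

theorem valU_nat (f : (R ⊗[k] B)ˣ) {W W' : Over Sk} (b : W' ⟶ W) (a : W ⟶ SP k R) (x : W ⟶ P k B) :
    valU f (b ≫ a) (b ≫ x) = Units.map (fn b).hom.toMonoidHom (valU f a x) := by
  refine Units.ext ?_
  show fn (lift (b ≫ a) (b ≫ x) ≫ _) _ = fn b (fn (lift a x ≫ _) _)
  rw [← comp_lift, Category.assoc, fn_comp]

theorem valU_spA (f : (R ⊗[k] B)ˣ) {A : Type u} [CommRing A] [Algebra k A] (φ : R →ₐ[k] A) (z : B →ₐ[k] A) :
    (valU f (spA φ) (toPt (toConv z)) : Γ((SP k A).left, ⊤)) = em A (ev1 φ z f) := by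
  rw [valU_coe, lift1_eq, Category.assoc, IsIso.hom_inv_id, Category.comp_id, fn_spA]

theorem valU_mul (f : (R ⊗[k] B)ˣ) (hf : IsCharUnit k B (f : R ⊗[k] B)) {W : Over Sk} (a : W ⟶ SP k R)
    (x y : W ⟶ P k B) : valU f a (x * y) = valU f a x * valU f a y := by
  let x₀ : B →ₐ[k] R ⊗[k] (B ⊗[k] B) := (includeRight : B ⊗[k] B →ₐ[k] _).comp includeLeft
  let y₀ : B →ₐ[k] R ⊗[k] (B ⊗[k] B) := (includeRight : B ⊗[k] B →ₐ[k] _).comp includeRight
  let φ₀ : R →ₐ[k] R ⊗[k] (B ⊗[k] B) := includeLeft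
  have h₀ : lift (spA φ₀) (lift (toPt (toConv x₀)) (toPt (toConv y₀))) = prod2 k B R := by
    have hid : ev2 φ₀ x₀ y₀ = AlgHom.id k _ := by
      refine Algebra.TensorProduct.ext (AlgHom.ext fun r => ?_) (Algebra.TensorProduct.ext (AlgHom.ext fun b => ?_)
        (AlgHom.ext fun b => ?_)) <;> simp [φ₀, x₀, y₀]
    rw [lift2_eq, hid, show spA (AlgHom.id k (R ⊗[k] (B ⊗[k] B))) = 𝟙 _ from
      Over.OverMorphism.ext (Spec.map_id _), Category.id_comp]
  obtain ⟨t, ht⟩ : ∃ t : W ⟶ SP k (R ⊗[k] (B ⊗[k] B)), t ≫ prod2 k B R = lift a (lift x y) :=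
    ⟨lift a (lift x y) ≫ inv (prod2 k B R),
      (Category.assoc _ _ _).trans (by rw [IsIso.inv_hom_id, Category.comp_id])⟩
  have ha : a = t ≫ spA φ₀ := by
    have := congrArg (· ≫ fst _ _) ht
    simp only [Category.assoc, ← h₀, lift_fst] at this
    exact this.symm
  have hx : x = t ≫ toPt (toConv x₀) := by
    have := congrArg (· ≫ snd _ _ ≫ fst _ _) ht
    simp only [Category.assoc, ← h₀, lift_fst, lift_snd_assoc] at this
    exact this.symm
  have hy : y = t ≫ toPt (toConv y₀) := by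
    have := congrArg (· ≫ snd _ _ ≫ snd _ _) ht
    simp only [Category.assoc, ← h₀, lift_snd, lift_snd_assoc] at this
    exact this.symm
  rw [ha, hx, hy, ← MonObj.comp_mul t (toPt (toConv x₀)) (toPt (toConv y₀)), valU_nat, valU_nat, valU_nat]
  refine Units.ext ?_
  show fn t (valU f (spA φ₀) (toPt (toConv x₀) * toPt (toConv y₀)) : Γ((SP k (R ⊗[k] (B ⊗[k] B))).left, ⊤)) =
    fn t (valU f (spA φ₀) (toPt (toConv x₀)) : Γ((SP k (R ⊗[k] (B ⊗[k] B))).left, ⊤)) * fn t (valU f (spA φ₀) (toPt (toConv y₀)) : Γ((SP k (R ⊗[k] (B ⊗[k] B))).left, ⊤))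
  rw [Groth.L07.ExtShAff.toPt_mulPt, valU_spA, valU_spA, valU_spA, hf, _root_.map_mul]
  exact _root_.map_mul (fn t).hom _ _

/-- the values as homomorphisms -/
def chiHom (f : (R ⊗[k] B)ˣ) (hf : IsCharUnit k B (f : R ⊗[k] B)) {W : Over Sk} (a : W ⟶ SP k R) :
    (CGrpSh.pts Kf (P k B)).obj.obj (op W) →+ (CGrpSh2.Gm Kf Sk).obj.obj (op W) :=
  AddMonoidHom.mk' (fun x => sG (S := Sk) (W := W) (valU f a (W := W) x.down.toMul)) fun x y => uG_injective (by
    rw [uG_add, uG_sG, uG_sG, uG_sG]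
    exact valU_mul f hf a x.down.toMul y.down.toMul)

/-- the character of a unit -/
def chi (f : (R ⊗[k] B)ˣ) (hf : IsCharUnit k B (f : R ⊗[k] B)) :
    (CGrpSh.pts Kf (P k B)).over (SP k R) ⟶ (CGrpSh2.Gm Kf Sk).over (SP k R) :=
  ⟨{ app := fun U => AddCommGrpCat.ofHom (chiHom f hf (unop U).hom)
     naturality := fun U U' b => AddCommGrpCat.ext fun x => uG_injective (by
      show uG (chiHom f hf (unop U').hom ((CGrpSh.pts Kf (P k B)).obj.map b.unop.left.op x)) =
        uG ((CGrpSh2.Gm Kf Sk).obj.map b.unop.left.op (chiHom f hf (unop U).hom x))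
      rw [uG_map]
      refine (uG_sG _).trans (Eq.trans ?_ (congrArg _ (uG_sG _).symm))
      rw [← Over.w b.unop]
      exact valU_nat f b.unop.left _ _) }⟩

theorem cval_chi (f : (R ⊗[k] B)ˣ) (hf : IsCharUnit k B (f : R ⊗[k] B)) {W : Over Sk} (a : W ⟶ SP k R)
    (x : W ⟶ P k B) : cval (chi f hf) a x = valU f a x := uG_sG _

theorem restr_chi {R' : Type u} [CommRing R'] [Algebra k R'] (π : R →ₐ[k] R') (f : (R ⊗[k] B)ˣ)
    (hf : IsCharUnit k B (f : R ⊗[k] B)) (g : (R' ⊗[k] B)ˣ) (hg : IsCharUnit k B (g : R' ⊗[k] B))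
    (he : Algebra.TensorProduct.map π (AlgHom.id k B) f = g) : restr (spA π) (chi f hf) = chi g hg := by
  refine cval_ext _ fun W a x => ?_
  rw [Groth.L07.DDAff.cval_restr, cval_chi, cval_chi]
  refine Units.ext ?_
  rw [valU_coe, valU_coe]
  have hπ : spA (Algebra.TensorProduct.map π (AlgHom.id k B)) ≫ prodSP k R B = prodSP k R' B ≫ (spA π ▷ P k B) := by
    refine CartesianMonoidalCategory.hom_ext _ _ ?_ ?_
    · rw [Category.assoc, Groth.L07.ExtShAff.prodSP_fst, Category.assoc, whiskerRight_fst, ← Category.assoc,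
        Groth.L07.ExtShAff.prodSP_fst, spA_comp, spA_comp]
      exact congrArg spA (AlgHom.ext fun r => by simp)
    · rw [Category.assoc, Groth.L07.ExtShAff.prodSP_snd, Category.assoc, whiskerRight_snd,
        Groth.L07.ExtShAff.prodSP_snd, spA_comp]
      exact congrArg spA (AlgHom.ext fun r => by simp)
  have e : lift (a ≫ spA π) x ≫ inv (prodSP k R B) =
      (lift a x ≫ inv (prodSP k R' B)) ≫ spA (Algebra.TensorProduct.map π (AlgHom.id k B)) := by
    rw [IsIso.comp_inv_eq, Category.assoc, hπ, Category.assoc, IsIso.inv_hom_id_assoc, lift_whiskerRight]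
  rw [e, fn_comp, fn_spA, he]

/-- characters over a ring are given by units -/
theorem exists_unit (ψ : (CGrpSh.pts Kf (P k B)).over (SP k R) ⟶ (CGrpSh2.Gm Kf Sk).over (SP k R)) :
    ∃ (f : (R ⊗[k] B)ˣ) (hf : IsCharUnit k B (f : R ⊗[k] B)), chi f hf = ψ := by
  obtain ⟨f, h1, h2⟩ := exists_repr ψ
  refine ⟨f, h2, cval_ext _ fun W a x => Units.ext ?_⟩
  rw [cval_chi, valU_coe, h1]

theorem chi_injective {f g : (R ⊗[k] B)ˣ} {hf : IsCharUnit k B (f : R ⊗[k] B)} {hg : IsCharUnit k B (g : R ⊗[k] B)}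
    (h : chi f hf = chi g hg) : f = g := by
  have h' := congrArg (fun ψ => (cval ψ (spA (includeLeft : R →ₐ[k] R ⊗[k] B))
    (toPt (toConv (includeRight : B →ₐ[k] R ⊗[k] B))) : Γ((SP k (R ⊗[k] B)).left, ⊤))) h
  simp only [cval_chi, valU_spA] at h'
  have hid : ev1 (includeLeft : R →ₐ[k] R ⊗[k] B) includeRight = AlgHom.id k (R ⊗[k] B) :=
    Algebra.TensorProduct.ext (AlgHom.ext fun r => by simp) (AlgHom.ext fun b => by simp)
  rw [hid] at h'
  exact Units.ext ((em_bijective (k := k)).1 h')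

end Groth.L07.Almost
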