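import Groth.Agent.L07.Almost.Struct
import Groth.Agent.L25.UnipExt
import Groth.Agent.L25.LargestMult.Indep
import Mathlib.RingTheory.Finiteness.Descent

/-!
# The invariants of the torus are finite
-/

universe u

open TensorProduct
open Groth.L25.LargestMult (N comp B J)

set_option autoImplicit false
set_option backward.isDefEq.respectTransparency false
set_option linter.style.haveILetI false
set_option maxHeartbeats 1000000
set_option synthInstance.maxHeartbeats 200000
set_option maxSynthPendingDepth 4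

noncomputable section

namespace Groth.L07.Almost

variable {k : Type u} [Field k] {A : Type u} [CommRing A] [HopfAlgebra k A] [Coalgebra.IsCocomm k A]

local notation "L" => AlgebraicClosure k

theorem πJ_of_mem_comp {v : L ⊗[k] A} (hv : v ∈ comp L (L ⊗[k] A)) :
    πJ k A v = Coalgebra.counit (R := L) v • 1 := by
  obtain ⟨m, hm⟩ := Groth.L25.LargestMult.mem_comp.1 hv
  have h := Groth.L25.LargestMult.N_baseChange_le (K := L) m hm
  clear hm hv
  rw [Submodule.baseChange_eq_span] at h
  induction h using Submodule.span_induction with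
  | zero => simp
  | add a b _ _ ha hb => rw [map_add, ha, hb, map_add, add_smul]
  | smul r a _ ha => rw [map_smul, ha, map_smul, smul_eq_mul, mul_smul]
  | mem z hz =>
    obtain ⟨w, hw, rfl⟩ := hz
    show (1 : L) ⊗ₜ[k] Ideal.Quotient.mk (J k A) w = Coalgebra.counit (R := L) ((1 : L) ⊗ₜ[k] w) • 1
    rw [show Ideal.Quotient.mk (J k A) w = algebraMap k (Mm k A) (Coalgebra.counit (R := k) w) from
        Groth.L25.LargestMult.mk_J_eq (Groth.L25.LargestMult.mem_B.2 ⟨m, hw⟩),
      TensorProduct.counit_tmul, CommSemiring.counit_apply, Algebra.algebraMap_eq_smul_one,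
      TensorProduct.tmul_smul, ← Algebra.TensorProduct.one_def, smul_assoc, one_smul]

theorem mem_J_of_πJ_eq_zero {z : L ⊗[k] A} (hz : πJ k A z = 0) : z ∈ J L (L ⊗[k] A) := by
  have hJ : J k A ≤ (J L (L ⊗[k] A)).comap (Algebra.TensorProduct.includeRight : A →ₐ[k] L ⊗[k] A) := by
    conv_lhs => unfold J
    rw [Ideal.map_le_iff_le_comap]
    intro b hb
    have hb0 : Coalgebra.counit (R := k) (b : A) = 0 := hb
    obtain ⟨m, hm⟩ := Groth.L25.LargestMult.mem_B.1 b.2
    have h1 : (1 : L) ⊗ₜ[k] (b : A) ∈ Groth.L25.LargestMult.B L (L ⊗[k] A) := Groth.L25.LargestMult.mem_B.2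
      ⟨m, Groth.L25.LargestMult.baseChange_N_le m (Submodule.tmul_mem_baseChange_of_mem _ hm)⟩
    have h2 := Groth.L25.LargestMult.sub_counit_mem_J h1
    rw [show Coalgebra.counit (R := L) ((1 : L) ⊗ₜ[k] (b : A)) = 0 by
      rw [TensorProduct.counit_tmul, hb0, zero_smul], map_zero, sub_zero] at h2
    exact h2
  have hex : Function.Exact ((J k A).restrictScalars k).subtype (Ideal.Quotient.mkₐ k (J k A)).toLinearMap :=
    fun y => by
      constructor
      · intro hy; exact ⟨⟨y, Ideal.Quotient.eq_zero_iff_mem.1 hy⟩, rfl⟩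
      · rintro ⟨w, rfl⟩; exact Ideal.Quotient.eq_zero_iff_mem.2 w.2
  have hzl : (Ideal.Quotient.mkₐ k (J k A)).toLinearMap.lTensor L z = 0 := by
    refine Eq.trans ?_ hz
    clear hz
    induction z using TensorProduct.induction_on with
    | zero => simp
    | add p q hp hq => simp only [map_add, hp, hq]
    | tmul s a => rfl
  obtain ⟨w, rfl⟩ := (lTensor_exact L hex Ideal.Quotient.mk_surjective z).1 hzl
  clear hz hzl
  induction w using TensorProduct.induction_on with
  | zero => simp
  | add p q hp hq => rw [map_add]; exact add_mem hp hq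
  | tmul s a =>
    rw [LinearMap.lTensor_tmul, Submodule.subtype_apply,
      show s ⊗ₜ[k] (a : A) = (s ⊗ₜ[k] (1 : A)) * ((1 : L) ⊗ₜ[k] (a : A)) by simp]
    exact Ideal.mul_mem_left _ _ (hJ a.2)

/-- group-likes are detected by the multiplicative part -/
theorem groupLike_eq_one {g : GroupLike L (L ⊗[k] A)} (hg : πJ k A g.val = 1) : g = 1 := by
  have hmk : Ideal.Quotient.mkₐ L (J L (L ⊗[k] A)) g.val = 1 := by
    rw [← map_one (Ideal.Quotient.mkₐ L (J L (L ⊗[k] A)))]
    exact Ideal.Quotient.eq.2 (mem_J_of_πJ_eq_zero (by rw [map_sub, hg, map_one, sub_self]))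
  letI := Groth.L25.HopfSub.hopfAlgebra
    (Groth.L25.LargestMult.isHopfSubalgebra_B (k := L) (A := L ⊗[k] A))
  obtain ⟨c, hc⟩ := Groth.L25.UnipExt.mem_range_of_fixed
    (Groth.L25.HopfSub.inclBialg (Groth.L25.LargestMult.isHopfSubalgebra_B (k := L) (A := L ⊗[k] A)))
    (J := J L (L ⊗[k] A)) rfl (a := g.val) (by
      rw [g.isGroupLikeElem_val.comul_eq_tmul_self, TensorProduct.map_tmul]
      show g.val ⊗ₜ[L] (Ideal.Quotient.mkₐ L (J L (L ⊗[k] A)) g.val) = _
      rw [hmk])
  have hmem : g.val ∈ comp L (L ⊗[k] A) := by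
    have hc' : (c : L ⊗[k] A) = g.val := hc
    rw [← hc']
    exact c.2
  have h1 : (1 : L ⊗[k] A) ∈ comp L (L ⊗[k] A) :=
    Groth.L25.LargestMult.mem_comp.2 ⟨1, Groth.L25.LargestMult.one_mem_N⟩
  have h := Groth.L25.LargestMult.dec_injective (k := L) (A := L ⊗[k] A)
    (a₁ := Finsupp.single g ⟨1, h1⟩) (a₂ := Finsupp.single 1 ⟨g.val, hmem⟩) (by
      rw [Groth.L25.LargestMult.dec_single, Groth.L25.LargestMult.dec_single, GroupLike.val_one, one_mul, mul_one])
  by_contra hG
  have h' := congrArg (fun z => z g) h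
  simp only [Finsupp.single_eq_same, Finsupp.single_eq_of_ne hG] at h'
  have h0 : (1 : L ⊗[k] A) = 0 := congrArg Subtype.val h'
  exact one_ne_zero (α := L) (by rw [← Bialgebra.counit_one (R := L) (A := L ⊗[k] A), h0, map_zero])

theorem finite_powKer (X : Type u) [CommGroup X] [Group.FG X] (n : ℕ) (hn0 : 0 < n) :
    Set.Finite {x : X | x ^ n = 1} := by
  haveI : Module.Finite ℤ (Additive X) := Module.Finite.iff_addGroup_fg.2 (GroupFG.iff_add_fg.1 inferInstance)
  let T : AddSubgroup (Additive X) := (powMonoidHom n : X →* X).toAdditive.ker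
  haveI : Module.Finite ℤ T.toIntSubmodule := Module.Finite.iff_fg.2 (IsNoetherian.noetherian _)
  haveI : AddGroup.FG T := Module.Finite.iff_addGroup_fg.1 (inferInstanceAs (Module.Finite ℤ T.toIntSubmodule))
  haveI : Finite T := AddCommGroup.finite_of_fg_torsion T fun x =>
    isOfFinAddOrder_iff_nsmul_eq_zero.2 ⟨n, hn0, Subtype.ext x.2⟩
  exact Set.Finite.of_finite_image (f := Additive.ofMul)
    (Set.Finite.subset (Set.toFinite (T : Set (Additive X))) (by rintro _ ⟨x, hx, rfl⟩; exact congrArg Additive.ofMul hx))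
    Additive.ofMul.injective.injOn

theorem finite_coinv [Module.Finite k (Groth.L25.LargestMult.B k A)] (n : ℕ) (hn0 : 0 < n) (X : Type u) [CommGroup X]
    [Group.FG X] (d : L ⊗[k] Mm k A ≃ₐc[L] MonoidAlgebra L X) :
    Module.Finite k (Groth.L01.NormalHopf.coinv k (In k A n)) := by
  classical
  let π := piX n X d
  have hπ : ∀ g : GroupLike L (L ⊗[k] A), ∃ x : X, d (πJ k A g.val) = MonoidAlgebra.single x 1 := fun g => by
    obtain ⟨x, hx⟩ := MonoidAlgebra.isGroupLikeElem_iff_mem_range_single_one.1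
      ((g.isGroupLikeElem_val.map (πJ k A)).map d.toBialgHom)
    exact ⟨x, hx.symm⟩
  choose χ hχ using hπ
  have hχinj : Function.Injective χ := fun g h e => by
    have e1 : πJ k A g.val = πJ k A h.val := d.toEquiv.injective ((hχ g).trans (e ▸ (hχ h).symm))
    refine mul_inv_eq_one.1 (groupLike_eq_one ?_)
    rw [GroupLike.val_mul, map_mul, e1, ← map_mul, ← GroupLike.val_mul, mul_inv_cancel, GroupLike.val_one, map_one]
  have hπg : ∀ g : GroupLike L (L ⊗[k] A), π g.val = MonoidAlgebra.single (χ g ^ n) 1 := fun g => by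
    rw [piX_eq, hχ]
    simp
  have hSfin : Set.Finite {g : GroupLike L (L ⊗[k] A) | χ g ^ n = 1} :=
    (finite_powKer X n hn0).preimage hχinj.injOn
  haveI hcompfin : Module.Finite L (comp L (L ⊗[k] A)) := by
    have hle : comp L (L ⊗[k] A) ≤ (Subalgebra.toSubmodule (Groth.L25.LargestMult.B k A)).baseChange L := fun x hx => by
      obtain ⟨m, hm⟩ := Groth.L25.LargestMult.mem_comp.1 hx
      have h := Groth.L25.LargestMult.N_baseChange_le (K := L) m hm
      rw [Submodule.baseChange_eq_span] at h ⊢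
      exact Submodule.span_mono (Set.image_mono fun a ha => Groth.L25.LargestMult.mem_B.2 ⟨m, ha⟩) h
    haveI : Module.Finite k (Subalgebra.toSubmodule (Groth.L25.LargestMult.B k A)) :=
      Module.Finite.equiv (Subalgebra.toSubmoduleEquiv (Groth.L25.LargestMult.B k A)).symm
    haveI : Module.Finite L ((Subalgebra.toSubmodule (Groth.L25.LargestMult.B k A)).baseChange L) :=
      Module.Finite.iff_fg.2 (by
        obtain ⟨t, ht⟩ := (Module.Finite.iff_fg.1 (inferInstance :
          Module.Finite k (Subalgebra.toSubmodule (Groth.L25.LargestMult.B k A))))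
        rw [← ht, Submodule.baseChange_span]
        exact Submodule.fg_span (t.finite_toSet.image _))
    exact Submodule.finiteDimensional_of_le hle
  let W : Submodule L (L ⊗[k] A) :=
    ⨆ g ∈ hSfin.toFinset, (comp L (L ⊗[k] A)).map (LinearMap.mulLeft L g.val)
  haveI hWfin : Module.Finite L W := Module.Finite.iff_fg.2
    (Submodule.fg_biSup _ _ fun g _ => (Module.Finite.iff_fg.1 hcompfin).map _)
  let Θ : L ⊗[k] A →ₗ[L] (L ⊗[k] A) ⊗[L] MonoidAlgebra L X :=
    TensorProduct.map LinearMap.id (π : L ⊗[k] A →ₗ[L] MonoidAlgebra L X) ∘ₗ Coalgebra.comul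
  have hΘb : ∀ b ∈ comp L (L ⊗[k] A), Θ b = b ⊗ₜ[L] (1 : MonoidAlgebra L X) := fun b hb => by
    obtain ⟨m, hm⟩ := Groth.L25.LargestMult.mem_comp.1 hb
    obtain ⟨w, hw⟩ := Groth.L25.LargestMult.isSubcomod_N (k := L) m b hm
    show TensorProduct.map LinearMap.id (π : L ⊗[k] A →ₗ[L] MonoidAlgebra L X) (Coalgebra.comul b) = _
    have hb' : b = TensorProduct.lid L (L ⊗[k] A) ((Coalgebra.counit (R := L)).rTensor _ (Coalgebra.comul b)) := by
      rw [Coalgebra.rTensor_counit_comul, TensorProduct.lid_tmul, one_smul]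
    conv_lhs => rw [← Coalgebra.comm_comul L b]
    conv_rhs => rw [hb']
    rw [show Coalgebra.comul (R := L) b = (N L (L ⊗[k] A) m).subtype.rTensor (L ⊗[k] A) w from hw.symm]
    clear hw hb'
    induction w using TensorProduct.induction_on with
    | zero => simp
    | add p q hp hq => simp only [map_add, hp, hq, TensorProduct.add_tmul]
    | tmul p q =>
      simp only [LinearMap.rTensor_tmul, Submodule.subtype_apply, TensorProduct.comm_tmul, TensorProduct.map_tmul,
        LinearMap.id_apply, TensorProduct.lid_tmul]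
      have e : π (p : L ⊗[k] A) = Coalgebra.counit (R := L) (p : L ⊗[k] A) • 1 := by
        rw [piX_eq, πJ_of_mem_comp (Groth.L25.LargestMult.mem_comp.2 ⟨m, p.2⟩), map_smul, map_one, map_smul, map_one]
      rw [show (π : L ⊗[k] A →ₗ[L] MonoidAlgebra L X) (p : L ⊗[k] A) = π (p : L ⊗[k] A) from rfl, e,
        TensorProduct.tmul_smul, TensorProduct.smul_tmul']
  let c1 : (L ⊗[k] A) ⊗[L] MonoidAlgebra L X →ₗ[L] L ⊗[k] A :=
    (TensorProduct.rid L (L ⊗[k] A)).toLinearMap ∘ₗ LinearMap.lTensor (L ⊗[k] A)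
      ((Finsupp.lapply 1) ∘ₗ (MonoidAlgebra.coeffLinearEquiv L).toLinearMap)
  have hW : ∀ z : L ⊗[k] A, Θ z = z ⊗ₜ[L] (1 : MonoidAlgebra L X) → z ∈ W := fun z hz => by
    obtain ⟨f, hf⟩ := Groth.L25.LargestMult.dec_surjective (k := L) (A := L ⊗[k] A) z
    have hgb : ∀ (g : GroupLike L (L ⊗[k] A)) (b : comp L (L ⊗[k] A)),
        c1 (Θ (g.val * (b : L ⊗[k] A))) ∈ W := fun g b => by
      have e : Θ (g.val * (b : L ⊗[k] A)) = (g.val * (b : L ⊗[k] A)) ⊗ₜ[L] π g.val := by
        have h2 := hΘb b b.2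
        show TensorProduct.map LinearMap.id (π : L ⊗[k] A →ₗ[L] MonoidAlgebra L X) (Coalgebra.comul _) = _
        rw [Bialgebra.comul_mul, g.isGroupLikeElem_val.comul_eq_tmul_self]
        have hm : ∀ w, TensorProduct.map LinearMap.id (π : L ⊗[k] A →ₗ[L] MonoidAlgebra L X) ((g.val ⊗ₜ[L] g.val) * w) =
            (g.val ⊗ₜ[L] π g.val) * TensorProduct.map LinearMap.id (π : L ⊗[k] A →ₗ[L] MonoidAlgebra L X) w := fun w => by
          induction w using TensorProduct.induction_on with
          | zero => simp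
          | add p q hp hq => simp only [map_add, mul_add, hp, hq]
          | tmul p q =>
            simp only [Algebra.TensorProduct.tmul_mul_tmul, TensorProduct.map_tmul, LinearMap.id_apply]
            show _ ⊗ₜ[L] π (g.val * q) = _
            rw [map_mul]
            rfl
        rw [hm, show TensorProduct.map LinearMap.id (π : L ⊗[k] A →ₗ[L] MonoidAlgebra L X)
          (Coalgebra.comul (R := L) (b : L ⊗[k] A)) = (b : L ⊗[k] A) ⊗ₜ[L] 1 from h2,
          Algebra.TensorProduct.tmul_mul_tmul, mul_one]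
      rw [e, hπg]
      by_cases hg : χ g ^ n = 1
      · have h1 : c1 ((g.val * (b : L ⊗[k] A)) ⊗ₜ[L] MonoidAlgebra.single (χ g ^ n) 1) = g.val * (b : L ⊗[k] A) := by
          simp [c1, hg]
        rw [h1]
        exact Submodule.mem_iSup_of_mem g (Submodule.mem_iSup_of_mem (hSfin.mem_toFinset.2 hg) ⟨b, b.2, rfl⟩)
      · have h1 : c1 ((g.val * (b : L ⊗[k] A)) ⊗ₜ[L] MonoidAlgebra.single (χ g ^ n) 1) = 0 := by
          simp [c1, hg]
        rw [h1]
        exact zero_mem _
    have hz1 : z = c1 (Θ z) := by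
      rw [hz]
      simp [c1, MonoidAlgebra.one_def]
    rw [hz1, ← hf]
    clear hz hz1 hf
    induction f using Finsupp.induction with
    | zero => simp
    | single_add g b f _ _ hf =>
      rw [map_add, map_add, map_add, Groth.L25.LargestMult.dec_single]
      exact add_mem (hgb g b) hf
  let Φ : A ⊗[k] Mm k A →ₗ[k] (L ⊗[k] A) ⊗[L] MonoidAlgebra L X := TensorProduct.lift
    (LinearMap.mk₂ k (fun p m => ((1 : L) ⊗ₜ[k] p) ⊗ₜ[L] d ((1 : L) ⊗ₜ[k] m))
      (fun p p' m => by simp [TensorProduct.tmul_add, TensorProduct.add_tmul])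
      (fun c p m => by rw [TensorProduct.tmul_smul, ← TensorProduct.smul_tmul'])
      (fun p m m' => by rw [TensorProduct.tmul_add, map_add, TensorProduct.tmul_add])
      (fun c p m => by
        rw [TensorProduct.tmul_smul, ← algebraMap_smul L c ((1 : L) ⊗ₜ[k] m), map_smul, algebraMap_smul,
          TensorProduct.tmul_smul]))
  have hmem : ∀ a ∈ Groth.L01.NormalHopf.coinv k (In k A n), (1 : L) ⊗ₜ[k] a ∈ W := fun a ha => hW _ <| by
    have h := congrArg (LinearMap.lTensor A (Fbar k A n : A ⧸ In k A n →ₗ[k] Mm k A))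
      (Groth.L01.NormalHopf.mem_coinv.1 ha)
    rw [LinearMap.lTensor_tmul, ← LinearMap.comp_apply, LinearMap.lTensor_comp_map] at h
    have h' := congrArg Φ h
    have e2 : Φ (a ⊗ₜ[k] (Fbar k A n (1 : A ⧸ In k A n))) = ((1 : L) ⊗ₜ[k] a) ⊗ₜ[L] (1 : MonoidAlgebra L X) := by
      rw [map_one]
      simp [Φ, ← Algebra.TensorProduct.one_def]
    rw [show (Fbar k A n : A ⧸ In k A n →ₗ[k] Mm k A) 1 = Fbar k A n (1 : A ⧸ In k A n) from rfl, e2] at h'
    rw [← h']
    show TensorProduct.map LinearMap.id (π : L ⊗[k] A →ₗ[L] MonoidAlgebra L X)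
      (Coalgebra.comul (R := L) ((1 : L) ⊗ₜ[k] a)) = _
    rw [TensorProduct.comul_tmul, CommSemiring.comul_apply]
    induction Coalgebra.comul (R := k) a using TensorProduct.induction_on with
    | zero => simp
    | add p q hp hq => simp only [TensorProduct.tmul_add, map_add, hp, hq]
    | tmul p q => simp [Φ, π, piX, FnL]; rfl
  let C := Subalgebra.toSubmodule (Groth.L01.NormalHopf.coinv k (In k A n))
  let φ : L ⊗[k] C →ₗ[L] W := LinearMap.codRestrict W (C.subtype.baseChange L) fun z => by
    induction z using TensorProduct.induction_on with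
    | zero => simp
    | add p q hp hq => rw [map_add]; exact add_mem hp hq
    | tmul s a =>
      rw [LinearMap.baseChange_tmul, Submodule.subtype_apply,
        show s ⊗ₜ[k] (a : A) = s • ((1 : L) ⊗ₜ[k] (a : A)) by rw [TensorProduct.smul_tmul', smul_eq_mul, mul_one]]
      exact W.smul_mem s (hmem a a.2)
  have hφ : Function.Injective φ := fun x y hxy =>
    Module.Flat.lTensor_preserves_injective_linearMap C.subtype Subtype.val_injective (congrArg Subtype.val hxy)
  haveI : Module.Finite L (L ⊗[k] C) := Module.Finite.of_injective φ hφ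
  haveI : Module.Finite k C := Module.Finite.of_finite_tensorProduct_of_faithfullyFlat L
  exact Module.Finite.equiv (Subalgebra.toSubmoduleEquiv (Groth.L01.NormalHopf.coinv k (In k A n)))

end Groth.L07.Almost
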