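import Groth.Agent.L07.Almost.Prim
import Groth.Agent.L07.EtConn.Tools
import Groth.Agent.L25.LargestMult.Main
import Groth.Agent.L01.Unip.SepTrig
import Mathlib.Algebra.CharP.Algebra
import Mathlib.RingTheory.Algebraic.Integral
import Mathlib.RingTheory.IntegralClosure.IntegralRestrict

/-!
# Finiteness of the unipotent component
-/

universe u

open TensorProduct Polynomial
open Groth.L25.LargestMult (N comp B)
open Groth.L01.SmoothKer (IsPrim)

set_option autoImplicit false
set_option backward.isDefEq.respectTransparency false
set_option linter.style.haveILetI false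
set_option maxHeartbeats 1000000
set_option maxSynthPendingDepth 4

noncomputable section

namespace Groth.L07.Almost

variable {k : Type u} [Field k] {A : Type u} [CommRing A] [HopfAlgebra k A] [Coalgebra.IsCocomm k A]

theorem mem_range_map_of_comm {W : Submodule k A} {d : A ⊗[k] A}
    (h : d ∈ LinearMap.range (W.subtype.rTensor A)) (hs : TensorProduct.comm k A A d = d) :
    d ∈ LinearMap.range (TensorProduct.map W.subtype W.subtype) := by
  obtain ⟨P, hP⟩ := W.subtype.exists_leftInverse_of_injective W.ker_subtype
  obtain ⟨w, rfl⟩ := h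
  have h1 : TensorProduct.map (W.subtype ∘ₗ P) LinearMap.id (W.subtype.rTensor A w) = W.subtype.rTensor A w := by
    induction w using TensorProduct.induction_on with
    | zero => simp
    | add x y hx hy => simp only [map_add, (show ∀ z, TensorProduct.map (W.subtype ∘ₗ P) LinearMap.id
        (W.subtype.rTensor A z) = W.subtype.rTensor A z from fun z => by
        induction z using TensorProduct.induction_on with
        | zero => simp
        | add p q hp hq => simp only [map_add, hp, hq]
        | tmul p q => simp [show P p = p from LinearMap.congr_fun hP p])]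
    | tmul x y => simp [show P x = x from LinearMap.congr_fun hP x]
  generalize W.subtype.rTensor A w = d at hs h1
  have h2 : TensorProduct.map LinearMap.id (W.subtype ∘ₗ P) d = d := by
    conv_lhs => rw [← hs]
    rw [TensorProduct.map_comm, h1, hs]
  refine ⟨TensorProduct.map P P d, ?_⟩
  have h3 := congrArg (TensorProduct.map (W.subtype ∘ₗ P) (LinearMap.id (R := k) (M := A))) h2
  rw [h1, TensorProduct.map_map, LinearMap.comp_id, LinearMap.id_comp] at h3
  rw [TensorProduct.map_map]
  exact h3

omit [Coalgebra.IsCocomm k A] in
theorem isIntegral_of_mem_range {W : Submodule k A} (hW : ∀ w ∈ W, IsIntegral k w) {d : A ⊗[k] A}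
    (h : d ∈ LinearMap.range (TensorProduct.map W.subtype W.subtype)) : IsIntegral k d := by
  obtain ⟨w, rfl⟩ := h
  induction w using TensorProduct.induction_on with
  | zero => rw [map_zero]; exact isIntegral_zero
  | add x y hx hy => rw [map_add]; exact hx.add hy
  | tmul x y =>
    have h1 : IsIntegral k ((Algebra.TensorProduct.includeLeft : A →ₐ[k] A ⊗[k] A) x) :=
      (hW _ x.2).map _
    have h2 : IsIntegral k ((Algebra.TensorProduct.includeRight : A →ₐ[k] A ⊗[k] A) y) :=
      (hW _ y.2).map _
    have := h1.mul h2
    simpa using this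

theorem finite_B_charZero (hprim : ∀ g : A, IsPrim (k := k) g → g = 0) : Module.Finite k (B k A) := by
  haveI : Module.Finite k (Submodule.span k {(1 : A)}) := Module.Finite.iff_fg.2 (Submodule.fg_span_singleton _)
  have hle : Subalgebra.toSubmodule (B k A) ≤ Submodule.span k {(1 : A)} := fun b hb => by
    obtain ⟨n, hn⟩ := Groth.L25.LargestMult.mem_B.1 hb
    exact Groth.L07.ExtShAff.N_le_one hprim n hn
  haveI : Module.Finite k (Subalgebra.toSubmodule (B k A)) := Submodule.finiteDimensional_of_le hle
  exact Module.Finite.equiv (Subalgebra.toSubmoduleEquiv (B k A))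

variable (p : ℕ) [Fact p.Prime] [CharP k p]
include p

/-- elements of the unipotent component are algebraic when the primitives are finite-dimensional -/
theorem isIntegral_of_mem_N (hP : (Pr k A).FG) : ∀ (n : ℕ), ∀ a ∈ N k A n, IsIntegral k a := by
  haveI : Nontrivial A := (Bialgebra.counitAlgHom k A).toRingHom.domain_nontrivial
  haveI : Nontrivial (A ⊗[k] A) :=
    ((Algebra.TensorProduct.lift (Algebra.ofId k k) (Algebra.ofId k k) fun _ _ => .all _ _).comp
      (Algebra.TensorProduct.map (Bialgebra.counitAlgHom k A) (Bialgebra.counitAlgHom k A))).toRingHom.domain_nontrivial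
  haveI : CharP (A ⊗[k] A) p := charP_of_injective_algebraMap (algebraMap k (A ⊗[k] A)).injective p
  intro n
  induction n with
  | zero =>
    intro a ha
    simp only [N, Submodule.mem_bot] at ha
    exact ha ▸ isIntegral_zero
  | succ n ih =>
    intro a ha
    rcases n with _ | n
    · rw [Groth.L07.EtConn.eq_counit_of_mem_N_one ha]
      exact isIntegral_algebraMap
    let Dl : A →ₗ[k] A ⊗[k] A :=
      (Coalgebra.comul (R := k) (A := A)) - (TensorProduct.mk k A A).flip 1 - (TensorProduct.mk k A A) 1
    have hsymm : TensorProduct.comm k A A (Dl a) = Dl a := by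
      simp only [Dl, LinearMap.sub_apply, LinearMap.flip_apply, TensorProduct.mk_apply, map_sub,
        TensorProduct.comm_tmul, Coalgebra.comm_comul]
      abel
    have hmem : Dl a ∈ LinearMap.range ((N k A (n + 1)).subtype.rTensor A) := by
      simp only [Dl, LinearMap.sub_apply, LinearMap.flip_apply, TensorProduct.mk_apply]
      exact sub_mem (Groth.L25.LargestMult.mem_N_succ_iff.1 ha) ⟨(⟨1, Groth.L25.LargestMult.N_mono
        (Nat.succ_le_succ (Nat.zero_le n)) Groth.L25.LargestMult.one_mem_N⟩ : N k A (n + 1)) ⊗ₜ[k] a, rfl⟩
    have hint : IsIntegral k (Dl a) := isIntegral_of_mem_range ih (mem_range_map_of_comm hmem hsymm)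
    let W : Submodule k A := (Subalgebra.toSubmodule (Algebra.adjoin k {Dl a})).comap Dl
    have hW : W.FG := by
      refine Submodule.fg_of_fg_map_of_fg_inf_ker Dl ?_ ?_
      · haveI : Module.Finite k (Subalgebra.toSubmodule (Algebra.adjoin k {Dl a})) :=
          Module.Finite.iff_fg.2 hint.fg_adjoin_singleton
        haveI := Submodule.finiteDimensional_of_le (Submodule.map_comap_le Dl
          (Subalgebra.toSubmodule (Algebra.adjoin k {Dl a})))
        exact Module.Finite.iff_fg.1 inferInstance
      · haveI : Module.Finite k (LinearMap.ker Dl) := Module.Finite.iff_fg.2 hP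
        haveI := Submodule.finiteDimensional_of_le (inf_le_right : W ⊓ LinearMap.ker Dl ≤ LinearMap.ker Dl)
        exact Module.Finite.iff_fg.1 inferInstance
    have hpow : ∀ i, a ^ p ^ i ∈ W := fun i => by
      show Dl (a ^ p ^ i) ∈ Algebra.adjoin k {Dl a}
      have e : Dl (a ^ p ^ i) = Dl a ^ p ^ i := by
        simp only [Dl, LinearMap.sub_apply, LinearMap.flip_apply, TensorProduct.mk_apply]
        rw [sub_pow_char_pow, sub_pow_char_pow, Bialgebra.comul_pow, Algebra.TensorProduct.tmul_pow,
          Algebra.TensorProduct.tmul_pow, one_pow]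
      rw [e]
      exact Subalgebra.pow_mem _ (Algebra.self_mem_adjoin_singleton k _) _
    by_contra hni
    have hinj : Function.Injective (aeval a : k[X] →ₐ[k] A) := by
      refine (injective_iff_map_eq_zero _).2 fun q hq => ?_
      by_contra hq0
      exact hni (isAlgebraic_iff_isIntegral.1 ⟨q, hq0, hq⟩)
    have hli : LinearIndependent k fun i : ℕ => a ^ p ^ i := by
      have h := ((Polynomial.basisMonomials k).linearIndependent.comp (fun i => p ^ i)
        (Nat.pow_right_injective (Fact.out : p.Prime).two_le)).map' (aeval a : k[X] →ₐ[k] A).toLinearMap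
        (LinearMap.ker_eq_bot.2 hinj)
      have he : (fun i : ℕ => a ^ p ^ i) = (aeval a : k[X] →ₐ[k] A).toLinearMap ∘
          ((Polynomial.basisMonomials k : ℕ → k[X]) ∘ fun i => p ^ i) := funext fun m => by
        simp [Polynomial.coe_basisMonomials, Polynomial.aeval_monomial]
      rw [he]
      exact h
    haveI : Module.Finite k W := Module.Finite.iff_fg.2 hW
    have hli' : LinearIndependent k fun i => (⟨a ^ p ^ i, hpow i⟩ : W) := LinearIndependent.of_comp W.subtype hli
    haveI := hli'.finite
    exact _root_.not_finite ℕ

/-- **the unipotent component is finite-dimensional** when the primitives are -/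
theorem finite_B_charP [Algebra.FiniteType k A] (hP : (Pr k A).FG) : Module.Finite k (B k A) := by
  letI := Groth.L25.HopfSub.hopfAlgebra (Groth.L25.LargestMult.isHopfSubalgebra_B (k := k) (A := A))
  haveI : Algebra.FiniteType k (B k A) := Groth.L01.SepTrig.finiteType_of_injective
    (Groth.L25.HopfSub.inclBialg (Groth.L25.LargestMult.isHopfSubalgebra_B (k := k) (A := A))) Subtype.val_injective
  haveI : Algebra.IsIntegral k (B k A) := ⟨fun b => by
    obtain ⟨n, hn⟩ := Groth.L25.LargestMult.mem_B.1 b.2
    exact (isIntegral_algHom_iff (B k A).val Subtype.val_injective).1 (isIntegral_of_mem_N p hP n _ hn)⟩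
  exact Algebra.IsIntegral.finite

end Groth.L07.Almost
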