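import Groth.Agent.L07.Almost.Char
import Mathlib.RingTheory.PowerSeries.Basic
import Mathlib.RingTheory.PowerSeries.Trunc

/-!
# Points of a scheme over power series rings and the representability of the dual
-/

universe u

open CategoryTheory CategoryTheory.Limits AlgebraicGeometry Opposite TensorProduct
open scoped MonObj
open Groth.L07.ExtShAff (ev1 mulPt spA_comp)
open Groth.L08.DoubleDual (restr)
open Groth.L08.TorusQuot (SP spA)
open Groth.L25.Bridge (P)

set_option autoImplicit false
set_option backward.defeqAttrib.useBackward true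
set_option backward.isDefEq.respectTransparency false
set_option backward.isDefEq.respectTransparency.types false
set_option linter.style.haveILetI false
set_option maxHeartbeats 1000000
set_option synthInstance.maxHeartbeats 200000

noncomputable section

namespace Groth.L07.Almost

local notation "Kf" => Scheme.fppfPrecoverage

variable {k : Type u} [Field k] {S : Type u} [CommRing S] [Algebra k S]

local notation "Sk" => Spec (CommRingCat.of k)
local notation "PS" => PowerSeries S

variable (S) in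
/-- the truncation ideal -/
abbrev Xid (n : ℕ) : Ideal (PowerSeries S) := Ideal.span {(PowerSeries.X : PowerSeries S) ^ (n + 1)}

variable (S) in
/-- the truncations -/
abbrev Rq (n : ℕ) : Type u := PowerSeries S ⧸ Xid S n

variable (k S) in
/-- the projection -/
abbrev πq (n : ℕ) : PowerSeries S →ₐ[k] Rq S n := Ideal.Quotient.mkₐ k _

theorem Xid_le (n : ℕ) : Xid S (n + 1) ≤ Xid S n := by
  rw [Ideal.span_singleton_le_span_singleton]
  exact pow_dvd_pow _ (Nat.le_succ _)

variable (k S) in
/-- the transition maps -/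
abbrev tq (n : ℕ) : Rq S (n + 1) →ₐ[k] Rq S n := Ideal.Quotient.factorₐ k (Xid_le n)

theorem πq_eq_iff {n : ℕ} {a b : PS} :
    πq k S n a = πq k S n b ↔ ∀ m ≤ n, PowerSeries.coeff m a = PowerSeries.coeff m b := by
  rw [Ideal.Quotient.mkₐ_eq_mk, Ideal.Quotient.eq, Ideal.mem_span_singleton, PowerSeries.X_pow_dvd_iff]
  constructor
  · intro h m hm
    exact sub_eq_zero.1 (by rw [← map_sub]; exact h m (by omega))
  · intro h m hm
    rw [map_sub, h m (by omega), sub_self]

theorem ext_of_πq {a b : PS} (h : ∀ n, πq k S n a = πq k S n b) : a = b :=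
  PowerSeries.ext fun n => πq_eq_iff.1 (h n) n le_rfl

/-- power series rings are limits of their truncations -/
theorem exists_lift_ringHom {C : Type u} [CommRing C] (g : ∀ n, C →+* Rq S n)
    (hg : ∀ n c, tq k S n (g (n + 1) c) = g n c) :
    ∃ G : C →+* PS, ∀ n c, πq k S n (G c) = g n c := by
  choose out hout using fun n (c : C) => Ideal.Quotient.mk_surjective (g n c)
  let G : C → PS := fun c => PowerSeries.mk fun m => PowerSeries.coeff m (out m c)
  have hG : ∀ n c, πq k S n (G c) = g n c := by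
    intro n c
    rw [← hout n c]
    refine πq_eq_iff.2 fun m hm => ?_
    rw [PowerSeries.coeff_mk]
    obtain ⟨j, rfl⟩ := Nat.exists_eq_add_of_le hm
    have key : ∀ j, πq k S m (out (m + j) c) = g m c := fun j => by
      induction j with
      | zero => exact hout m c
      | succ j ih =>
        have h1 : πq k S (m + j) (out (m + (j + 1)) c) = πq k S (m + j) (out (m + j) c) := by
          rw [Ideal.Quotient.mkₐ_eq_mk, hout, ← hg (m + j) c, ← hout (m + j + 1) c]
          rfl
        rw [← ih]
        exact πq_eq_iff.2 fun i hi => πq_eq_iff.1 h1 i (by omega)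
    exact πq_eq_iff.1 ((key 0).trans (key j).symm) m le_rfl
  refine ⟨{ toFun := G, map_one' := ?_, map_mul' := ?_, map_zero' := ?_, map_add' := ?_ }, hG⟩
  · exact ext_of_πq (k := k) fun n => by rw [hG, map_one, map_one]
  · exact fun a b => ext_of_πq (k := k) fun n => by rw [hG, map_mul, map_mul, hG, hG]
  · exact ext_of_πq (k := k) fun n => by rw [hG, map_zero, map_zero]
  · exact fun a b => ext_of_πq (k := k) fun n => by rw [hG, map_add, map_add, hG, hG]

/-- compatible points over the truncations come from a point over power series -/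
theorem exists_limit_point [Subsingleton (PrimeSpectrum S)] [Nontrivial S]
    (hsub : ∀ n, Subsingleton (PrimeSpectrum (Rq S n))) (D : Over Sk)
    (d : ∀ n, SP k (Rq S n) ⟶ D) (hd : ∀ n, spA (tq k S n) ≫ d (n + 1) = d n) :
    ∃ d' : SP k PS ⟶ D, ∀ n, spA (πq k S n) ≫ d' = d n := by
  haveI : ∀ n, Nontrivial (Rq S n) := fun n => Ideal.Quotient.nontrivial_iff.mpr fun h => by
    have h1 := Ideal.mem_span_singleton.1 (h ▸ (Submodule.mem_top : (1 : PS) ∈ (⊤ : Ideal PS)))
    have := PowerSeries.X_pow_dvd_iff.1 h1 0 (Nat.succ_pos n)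
    rw [PowerSeries.coeff_zero_one] at this
    exact one_ne_zero this
  let pt : ∀ n, (SP k (Rq S n)).left := fun n => Classical.choice (inferInstanceAs (Nonempty (PrimeSpectrum (Rq S n))))
  have hpt : ∀ n (z : (SP k (Rq S n)).left), z = pt n := fun n z => (hsub n).elim z (pt n)
  let q := (d 0).left (pt 0)
  have hq : ∀ n, (d n).left (pt n) = q := fun n => by
    induction n with
    | zero => rfl
    | succ n ih =>
      rw [← ih, ← hd n]
      show _ = (d (n + 1)).left ((spA (tq k S n)).left (pt n))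
      rw [hpt (n + 1) ((spA (tq k S n)).left (pt n))]
  obtain ⟨_, ⟨U, hU, rfl⟩, hqU, -⟩ := D.left.isBasis_affineOpens.exists_subset_of_mem_open (Set.mem_univ q) isOpen_univ
  have hrange : ∀ n, Set.range (d n).left ⊆ Set.range (Scheme.Opens.ι U) := fun n => by
    rintro _ ⟨z, rfl⟩
    rw [hpt n z, hq n, Scheme.Opens.range_ι]
    exact hqU
  let φ : ∀ n, Γ(D.left, U) →+* Rq S n := fun n =>
    (Spec.preimage (IsOpenImmersion.lift (Scheme.Opens.ι U) (d n).left (hrange n) ≫ hU.isoSpec.hom)).hom
  have hφ : ∀ n, Spec.map (CommRingCat.ofHom (φ n)) ≫ hU.fromSpec = (d n).left := fun n => by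
    show Spec.map (Spec.preimage _) ≫ _ = _
    rw [Spec.map_preimage, ← hU.isoSpec_inv_ι, Category.assoc, Iso.hom_inv_id_assoc, IsOpenImmersion.lift_fac]
  obtain ⟨G, hG⟩ := exists_lift_ringHom (k := k) φ fun n c => by
    have h : CommRingCat.ofHom (((tq k S n : Rq S (n + 1) →+* Rq S n)).comp (φ (n + 1))) = CommRingCat.ofHom (φ n) := by
      refine Spec.map_injective ((cancel_mono hU.fromSpec).1 ?_)
      rw [hφ n, CommRingCat.ofHom_comp, Spec.map_comp, Category.assoc, hφ (n + 1)]
      exact congrArg CommaMorphism.left (hd n)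
    exact congr(($h).hom c)
  let m : Spec (CommRingCat.of PS) ⟶ D.left := Spec.map (CommRingCat.ofHom G) ≫ hU.fromSpec
  have hm : ∀ n, (spA (πq k S n)).left ≫ m = (d n).left := fun n => by
    rw [← hφ n]
    show Spec.map (CommRingCat.ofHom (πq k S n : PS →+* Rq S n)) ≫ _ ≫ _ = _
    rw [← Category.assoc, ← Spec.map_comp, ← CommRingCat.ofHom_comp,
      show (πq k S n : PS →+* Rq S n).comp G = φ n from RingHom.ext (hG n)]
  obtain ⟨ψ, hψ⟩ : ∃ ψ : k →+* PS, Spec.map (CommRingCat.ofHom ψ) = m ≫ D.hom :=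
    ⟨(Spec.preimage (m ≫ D.hom)).hom, Spec.map_preimage _⟩
  have hψ' : ψ = algebraMap k PS := RingHom.ext fun c => ext_of_πq (k := k) fun n => by
    have h : CommRingCat.ofHom ((πq k S n : PS →+* Rq S n).comp ψ) = CommRingCat.ofHom (algebraMap k (Rq S n)) := by
      refine Spec.map_injective ?_
      rw [CommRingCat.ofHom_comp, Spec.map_comp, hψ, ← Category.assoc]
      refine Eq.trans (congrArg (· ≫ D.hom) (hm n)) ?_
      exact Over.w (d n)
    exact (congr(($h).hom c)).trans ((πq k S n).commutes c).symm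
  refine ⟨Over.homMk m (by rw [← hψ, hψ']; rfl), fun n => Over.OverMorphism.ext (hm n)⟩

variable {A : Type u} [CommRing A] [HopfAlgebra k A] [Coalgebra.IsCocomm k A]

omit [Coalgebra.IsCocomm k A] in
theorem IsCharUnit.map {R R' : Type u} [CommRing R] [Algebra k R] [CommRing R'] [Algebra k R'] (π : R →ₐ[k] R')
    {f : R ⊗[k] A} (hf : IsCharUnit k A f) : IsCharUnit k A (Algebra.TensorProduct.map π (AlgHom.id k A) f) := by
  intro B _ _ φ x y
  have h : ∀ (z : A →ₐ[k] B), ev1 φ z (Algebra.TensorProduct.map π (AlgHom.id k A) f) = ev1 (φ.comp π) z f :=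
    fun z => AlgHom.congr_fun (show (ev1 φ z).comp (Algebra.TensorProduct.map π (AlgHom.id k A)) = ev1 (φ.comp π) z from
      Algebra.TensorProduct.ext (AlgHom.ext fun r => by simp) (AlgHom.ext fun r => by simp)) f
  rw [h, h, h]
  exact hf B (φ.comp π) x y

/-- **if the dual is representable then compatible characters have a limit** -/
theorem exists_limit_unit [Subsingleton (PrimeSpectrum S)] [Nontrivial S]
    (hsub : ∀ n, Subsingleton (PrimeSpectrum (Rq S n)))
    (D : Over Sk) [GrpObj D] [IsCommMonObj D]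
    (e : CGrpSh.pts Kf D ≅ CGrpSh2.dualSh Kf (CGrpSh.pts Kf (P k A)))
    (u : ∀ n, (Rq S n ⊗[k] A)ˣ) (hu : ∀ n, IsCharUnit k A (u n : Rq S n ⊗[k] A))
    (hc : ∀ n, Algebra.TensorProduct.map (tq k S n) (AlgHom.id k A) (u (n + 1)) = u n) :
    ∃ f : PS ⊗[k] A, ∀ n, Algebra.TensorProduct.map (πq k S n) (AlgHom.id k A) f = u n := by
  let s : ∀ n, (CGrpSh2.dualSh Kf (CGrpSh.pts Kf (P k A))).obj.obj (op (SP k (Rq S n))) := fun n => chi (u n) (hu n)
  let x : ∀ n, (CGrpSh.pts Kf D).obj.obj (op (SP k (Rq S n))) := fun n => e.inv.hom.app (op (SP k (Rq S n))) (s n)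
  let d : ∀ n, SP k (Rq S n) ⟶ D := fun n => (x n).down.toMul
  have hd : ∀ n, spA (tq k S n) ≫ d (n + 1) = d n := fun n => by
    have h : (CGrpSh.pts Kf D).obj.map (spA (tq k S n)).op (x (n + 1)) = x n := by
      rw [← NatTrans.naturality_apply e.inv.hom (spA (tq k S n)).op (s (n + 1))]
      exact congrArg _ (restr_chi (tq k S n) (u (n + 1)) (hu (n + 1)) (u n) (hu n) (hc n))
    exact congrArg (fun z : (CGrpSh.pts Kf D).obj.obj (op (SP k (Rq S n))) => (z.down.toMul : SP k (Rq S n) ⟶ D)) h
  obtain ⟨d', hd'⟩ := exists_limit_point hsub D d hd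
  let ψ : (CGrpSh.pts Kf (P k A)).over (SP k PS) ⟶ (CGrpSh2.Gm Kf Sk).over (SP k PS) :=
    e.hom.hom.app (op (SP k PS)) (ULift.up (Additive.ofMul d'))
  obtain ⟨f, hf, hfψ⟩ := exists_unit ψ
  refine ⟨f, fun n => ?_⟩
  have h1 : restr (spA (πq k S n)) ψ = chi (u n) (hu n) := by
    have h := NatTrans.naturality_apply e.hom.hom (spA (πq k S n)).op (ULift.up (Additive.ofMul d'))
    refine h.symm.trans ?_
    have h2 : (CGrpSh.pts Kf D).obj.map (spA (πq k S n)).op (ULift.up (Additive.ofMul d')) = x n :=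
      congrArg ULift.up (congrArg Additive.ofMul (hd' n))
    rw [h2]
    exact ConcreteCategory.congr_hom (congrArg (fun t : NatTrans _ _ => t.app (op (SP k (Rq S n))))
      (congrArg (fun t : CGrpSh2.dualSh Kf (CGrpSh.pts Kf (P k A)) ⟶ CGrpSh2.dualSh Kf (CGrpSh.pts Kf (P k A)) => t.hom)
        e.inv_hom_id)) (s n)
  have hu' : IsUnit (Algebra.TensorProduct.map (πq k S n) (AlgHom.id k A) (f : PS ⊗[k] A)) := f.isUnit.map _
  have h3 := restr_chi (πq k S n) f hf hu'.unit (hf.map (πq k S n)) rfl
  rw [hfψ, h1] at h3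
  exact (congrArg Units.val (chi_injective h3)).symm

end Groth.L07.Almost
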