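import Groth.Agent.L07.Almost.Coinv
import Groth.Agent.L07.Almost.Finite
import Groth.Agent.L08.CharSurj
import Mathlib.AlgebraicGeometry.Morphisms.Finite

/-!
# Representable duals come from almost tori
-/

universe u

open CategoryTheory CategoryTheory.Limits AlgebraicGeometry MonoidalCategory CartesianMonoidalCategory TensorProduct
open scoped MonObj
open Groth.L25.Bridge (P)
open Groth.L08.TorusQuot (sp sp_left)

set_option autoImplicit false
set_option backward.isDefEq.respectTransparency false
set_option backward.isDefEq.respectTransparency.types false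
set_option linter.style.haveILetI false
set_option maxHeartbeats 1000000
set_option synthInstance.maxHeartbeats 200000
set_option maxSynthPendingDepth 4

noncomputable section

namespace Groth.L07.Almost

local notation "Kf" => Scheme.fppfPrecoverage

variable {k : Type u} [Field k]

local notation "Sk" => Spec (CommRingCat.of k)

theorem exists_torus_hopf {A : Type u} [CommRing A] [HopfAlgebra k A] [Coalgebra.IsCocomm k A] [Algebra.FiniteType k A]
    [Module.Finite k (Groth.L25.LargestMult.B k A)] :
    ∃ (T Q : Over Sk) (_ : GrpObj T) (_ : GrpObj Q) (j : T ⟶ P k A) (q : P k A ⟶ Q)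
      (_ : IsMonHom j) (_ : IsMonHom q), Mono j ∧ Red.IsTorus T ∧ AlgGrp.IsKernel j q ∧ Flat q.left ∧
        Surjective q.left ∧ IsFinite Q.hom := by
  obtain ⟨X, _, hX, ⟨d⟩⟩ := exists_diag k A
  haveI := hX
  obtain ⟨n, hn0, hn⟩ := exists_exponent X
  obtain ⟨e⟩ := nonempty_torus_equiv n X d
  have hT := isTorus n X hn hn0 e
  have hNorm : SGA3.IsNormalHopfIdeal k A (In k A n) := by
    intro R _ _ g h hh a ha
    have e1 : WithConv.toConv (Dyn.conv3 k A g h (g.comp (HopfAlgebra.antipodeAlgHom k A))) =
        WithConv.toConv g * WithConv.toConv h * Groth.L08.pinv (WithConv.toConv g) := by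
      rw [Groth.L08.toConv_conv3]
      rfl
    have e2 : WithConv.toConv g * WithConv.toConv h * Groth.L08.pinv (WithConv.toConv g) = WithConv.toConv h := by
      rw [mul_comm (WithConv.toConv g) (WithConv.toConv h), mul_assoc, Groth.L08.mul_pinv, mul_one]
    have h3 := congrArg WithConv.ofConv (e1.trans e2)
    exact (AlgHom.congr_fun h3 a).trans (hh a ha)
  let hC := Groth.L01.NormalHopf.isHopfSubalgebra_coinv (k := k) hNorm
  letI := Groth.L25.HopfSub.hopfAlgebra hC
  let ψ : Groth.L01.NormalHopf.coinv k (In k A n) →ₐc[k] A := Groth.L25.HopfSub.inclBialg hC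
  have hψ : Function.Injective ψ := Subtype.val_injective
  haveI : Algebra.FiniteType k (Groth.L01.NormalHopf.coinv k (In k A n)) :=
    Groth.L01.SepTrig.finiteType_of_injective ψ hψ
  haveI : Module.Finite k (Groth.L01.NormalHopf.coinv k (In k A n)) := finite_coinv n hn0 X d
  have hker : In k A n = (RingHom.ker (Bialgebra.counitAlgHom k (Groth.L01.NormalHopf.coinv k (In k A n)))).map
      (ψ : Groth.L01.NormalHopf.coinv k (In k A n) →+* A) := by
    have h1 : SGA3.augIdealSpan k A (Groth.L01.NormalHopf.coinv k (In k A n)) = In k A n :=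
      le_antisymm Groth.L01.NormalHopf.augIdealSpan_coinv_le (Groth.L01.NormalHopf.le_augIdealSpan_of_finiteType hNorm)
    conv_lhs => rw [← h1]
    refine le_antisymm ?_ ?_
    · rw [SGA3.augIdealSpan, Ideal.span_le]
      rintro x ⟨hx, hx0⟩
      exact Ideal.mem_map_of_mem (ψ : Groth.L01.NormalHopf.coinv k (In k A n) →+* A)
        (show (⟨x, hx⟩ : Groth.L01.NormalHopf.coinv k (In k A n)) ∈
          RingHom.ker (Bialgebra.counitAlgHom k (Groth.L01.NormalHopf.coinv k (In k A n))) from hx0)
    · rw [Ideal.map_le_iff_le_comap]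
      intro c hc
      exact Ideal.subset_span ⟨c.2, hc⟩
  let qI : A →ₐc[k] A ⧸ In k A n := Bialgebra.Quotient.mkBialgHom (R := k) (In k A n)
  haveI : IsClosedImmersion (sp qI).left := by
    rw [sp_left]
    exact IsClosedImmersion.spec_of_surjective _ Ideal.Quotient.mk_surjective
  have hff : Module.FaithfullyFlat (Groth.L01.NormalHopf.coinv k (In k A n)) A :=
    Groth.L25.HopfFlat.faithfullyFlat _ hC
  refine ⟨P k (A ⧸ In k A n), P k (Groth.L01.NormalHopf.coinv k (In k A n)), inferInstance, inferInstance,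
    sp qI, sp ψ, inferInstance, inferInstance, Over.mono_of_mono_left _, hT, ?_, ?_, ?_, ?_⟩
  · exact Groth.L08.SpecKernel.isKernel ψ qI Ideal.Quotient.mk_surjective (Eq.trans Ideal.mk_ker hker)
  · rw [sp_left, Flat.SpecMap_iff]
    exact RingHom.flat_algebraMap_iff.2 (inferInstanceAs (Module.Flat (Groth.L01.NormalHopf.coinv k (In k A n)) A))
  · rw [sp_left]
    exact ⟨PrimeSpectrum.comap_surjective_of_faithfullyFlat (A := Groth.L01.NormalHopf.coinv k (In k A n)) (B := A)⟩
  · show IsFinite (Spec.map (CommRingCat.ofHom (algebraMap k (Groth.L01.NormalHopf.coinv k (In k A n)))))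
    rw [IsFinite.SpecMap_iff, CommRingCat.hom_ofHom, RingHom.finite_algebraMap]
    infer_instance

theorem finite_B_of_rep {A : Type u} [CommRing A] [HopfAlgebra k A] [Coalgebra.IsCocomm k A] [Algebra.FiniteType k A]
    (D : Over Sk) [GrpObj D] [IsCommMonObj D]
    (e : CGrpSh.pts Kf D ≅ CGrpSh2.dualSh Kf (CGrpSh.pts Kf (P k A))) :
    Module.Finite k (Groth.L25.LargestMult.B k A) := by
  obtain ⟨p, hp⟩ := CharP.exists k
  rcases CharP.char_is_prime_or_zero k p with hp' | hp0
  · haveI := Fact.mk hp'
    exact finite_B_charP p (fg_Pr D e)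
  · subst hp0
    haveI : CharZero k := CharP.charP_to_charZero k
    exact finite_B_charZero (fun g hg => prim_eq_zero D e g hg)

/-- **a representable dual forces an almost torus** -/
theorem torus_finite_quotient (G : Over Sk) [GrpObj G] [IsCommMonObj G] [IsAffine G.left] [LocallyOfFiniteType G.hom]
    (D : Over Sk) [GrpObj D] [IsCommMonObj D]
    (e : CGrpSh.pts Kf D ≅ CGrpSh2.dualSh Kf (CGrpSh.pts Kf G)) :
    ∃ (T Q : Over Sk) (_ : GrpObj T) (_ : GrpObj Q) (j : T ⟶ G) (q : G ⟶ Q)
      (_ : IsMonHom j) (_ : IsMonHom q), Mono j ∧ Red.IsTorus T ∧ AlgGrp.IsKernel j q ∧ Flat q.left ∧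
        Surjective q.left ∧ IsFinite Q.hom := by
  obtain ⟨A, _, _, _, E, hE⟩ := Groth.L08.CharSurj.exists_P (H := G)
  haveI := hE
  haveI := Groth.L08.CharSurj.isCocomm E
  haveI : IsMonHom E.inv := inferInstance
  let E' : CGrpSh.pts Kf (P k A) ≅ CGrpSh.pts Kf G :=
    { hom := CGrpSh.ptsMap Kf E.hom
      inv := CGrpSh.ptsMap Kf E.inv
      hom_inv_id := by
        rw [← CGrpSh.ptsMap_comp]
        simp only [Iso.hom_inv_id]
        exact CGrpSh.ptsMap_id _
      inv_hom_id := by
        rw [← CGrpSh.ptsMap_comp]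
        simp only [Iso.inv_hom_id]
        exact CGrpSh.ptsMap_id _ }
  haveI := finite_B_of_rep D (e ≪≫ (CGrpSh2.dualFunctor Kf Sk).mapIso E'.op)
  obtain ⟨T, Q, _, _, j, q, _, _, hj, hT, hker, hfl, hsurj, hfin⟩ := exists_torus_hopf (k := k) (A := A)
  haveI := hj
  haveI : IsIso E.inv.left := inferInstanceAs (IsIso ((Over.forget _).map E.inv))
  haveI : IsIso E.hom.left := inferInstanceAs (IsIso ((Over.forget _).map E.hom))
  haveI := hfl
  haveI := hsurj
  refine ⟨T, Q, inferInstance, inferInstance, j ≫ E.hom, E.inv ≫ q, inferInstance, inferInstance, inferInstance, hT,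
    ?_, ?_, ?_, hfin⟩
  · exact IsPullback.of_iso hker (Iso.refl T) E (Iso.refl _) (Iso.refl Q) (by simp) (by simp) (by simp) (by simp)
  · show Flat (E.inv.left ≫ q.left); infer_instance
  · show Surjective (E.inv.left ≫ q.left); infer_instance

end Groth.L07.Almost
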