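import Groth.Agent.L07.EtConn.Tools
import Groth.Agent.L25.LargestMult.Split
import Groth.Agent.L25.MultType.Torsion
import Groth.Agent.L25.MultSub.Alg
import Groth.Agent.L15.Galois.Hom
import Groth.Agent.L08.TorusQuot.Chars
import Mathlib.RingTheory.HopfAlgebra.MonoidAlgebra
import Mathlib.GroupTheory.Torsion
import Mathlib.GroupTheory.FiniteAbelian.Basic

/-!
# A power map on the multiplicative part
-/

universe u

open TensorProduct WithConv
open Groth.L25.LargestMult (N comp B J)

set_option autoImplicit false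
set_option backward.isDefEq.respectTransparency false
set_option linter.style.haveILetI false
set_option maxHeartbeats 1000000
set_option synthInstance.maxHeartbeats 200000
set_option maxSynthPendingDepth 4

noncomputable section

namespace Groth.L07.Almost

variable (k : Type u) [Field k] (A : Type u) [CommRing A] [HopfAlgebra k A] [Coalgebra.IsCocomm k A]

local notation "L" => AlgebraicClosure k

/-- the multiplicative part -/
abbrev Mm : Type u := A ⧸ J k A

instance : (J k A).IsHopfIdeal k := Groth.L25.LargestMult.isHopfIdeal_J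

instance : Coalgebra.IsCocomm k (Mm k A) :=
  Groth.L25.MultSub.isCocomm_of_surjective (Bialgebra.Quotient.mkBialgHom (R := k) (J k A)) Ideal.Quotient.mk_surjective

/-- the power map composed with the projection to the multiplicative part -/
def Fn (n : ℕ) : A →ₐc[k] Mm k A :=
  ((toConv (BialgHom.id k (Mm k A)) ^ n).ofConv).comp (Bialgebra.Quotient.mkBialgHom (R := k) (J k A))

theorem Fn_apply (n : ℕ) (a : A) : Fn k A n a = SGA3b.powConv k (Mm k A) n (Ideal.Quotient.mk (J k A) a) := by
  have h : ((toConv (BialgHom.id k (Mm k A)) ^ n).ofConv : Mm k A →ₐ[k] Mm k A) = SGA3b.powConv k (Mm k A) n :=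
    congrArg WithConv.ofConv (BialgHom.toAlgHom_convPow (WithConv.toConv (BialgHom.id k (Mm k A))) n)
  exact AlgHom.congr_fun h _

/-- the kernel of the power map on the multiplicative part -/
def In (n : ℕ) : Ideal A := RingHom.ker (Fn k A n : A →+* Mm k A)

variable {k A}

omit [Coalgebra.IsCocomm k A] in
theorem isHopfIdeal_ker {C : Type u} [CommRing C] [HopfAlgebra k C] (F : A →ₐc[k] C) :
    (RingHom.ker (F : A →+* C)).IsHopfIdeal k := by
  let K : Ideal A := RingHom.ker (F : A →+* C)
  let p : A →ₗ[k] C := (F : A →ₗ[k] C)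
  let e : (A ⧸ K.restrictScalars k) →ₗ[k] C := (K.restrictScalars k).liftQ p fun _ h => h
  have he : Function.Injective e :=
    LinearMap.ker_eq_bot.mp (Submodule.ker_liftQ_eq_bot _ _ _ fun x hx => hx)
  refine { counit_eq_zero := fun x hx => ?_, map_mkQ_comul_eq_zero := fun x hx => ?_, antipode_mem := fun x hx => ?_ }
  · rw [← CoalgHomClass.counit_comp_apply F x, show F x = 0 from hx, map_zero]
  · apply TensorProduct.map_injective_of_flat_flat e e he he
    rw [map_zero]
    have key : ∀ z : A ⊗[k] A, TensorProduct.map e e (TensorProduct.map (K.restrictScalars k).mkQ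
        (K.restrictScalars k).mkQ z) = TensorProduct.map (F : A →ₗ[k] C) (F : A →ₗ[k] C) z := fun z => by
      induction z using TensorProduct.induction_on with
      | zero => simp
      | add a b ha hb => simp only [map_add, ha, hb]
      | tmul a b => rfl
    refine (key _).trans ?_
    rw [CoalgHomClass.map_comp_comul_apply, show F x = 0 from hx, map_zero]
  · show F (HopfAlgebraStruct.antipode (R := k) x) = 0
    have := LinearMap.congr_fun (Groth.L15.Galois.antipode_comp F) x
    simp only [LinearMap.comp_apply] at this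
    rw [show F (HopfAlgebraStruct.antipode (R := k) x) = F.toCoalgHom.toLinearMap (HopfAlgebraStruct.antipode (R := k) x)
      from rfl, ← this, show F.toCoalgHom.toLinearMap x = F x from rfl, show F x = 0 from hx, map_zero]

instance (n : ℕ) : (In k A n).IsHopfIdeal k := isHopfIdeal_ker (Fn k A n)

variable (k A)

/-- the induced map on the quotient -/
def Fbar (n : ℕ) : A ⧸ In k A n →ₐc[k] Mm k A :=
  BialgHom.ofAlgHom (Ideal.Quotient.liftₐ (In k A n) (Fn k A n : A →ₐ[k] Mm k A) fun _ h => h)
    (Ideal.Quotient.algHom_ext k (AlgHom.ext fun a => CoalgHomClass.counit_comp_apply (Fn k A n) a))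
    (Ideal.Quotient.algHom_ext k (AlgHom.ext fun a => by
      show TensorProduct.map (Ideal.Quotient.liftₐ _ (Fn k A n : A →ₐ[k] Mm k A) _).toLinearMap
        (Ideal.Quotient.liftₐ _ (Fn k A n : A →ₐ[k] Mm k A) _).toLinearMap
        (TensorProduct.map (Ideal.Quotient.mkₐ k (In k A n)).toLinearMap (Ideal.Quotient.mkₐ k (In k A n)).toLinearMap
          (Coalgebra.comul (R := k) a)) = Coalgebra.comul (R := k) (Fn k A n a)
      rw [TensorProduct.map_map, ← CoalgHomClass.map_comp_comul_apply (Fn k A n) a]
      rfl))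

theorem Fbar_mk (n : ℕ) (a : A) : Fbar k A n (Ideal.Quotient.mk _ a) = Fn k A n a := rfl

theorem Fbar_injective (n : ℕ) : Function.Injective (Fbar k A n) := fun x y h => by
  obtain ⟨a, rfl⟩ := Ideal.Quotient.mk_surjective x
  obtain ⟨b, rfl⟩ := Ideal.Quotient.mk_surjective y
  rw [Ideal.Quotient.eq]
  show Fn k A n (a - b) = 0
  rw [map_sub]
  exact sub_eq_zero.2 h

/-- the projection to the multiplicative part over the closure -/
def πJ : L ⊗[k] A →ₐc[L] L ⊗[k] Mm k A :=
  Bialgebra.TensorProduct.map (BialgHom.id L L) (Bialgebra.Quotient.mkBialgHom (J k A))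

/-- the power map over the closure -/
def FnL (n : ℕ) : L ⊗[k] A →ₐc[L] L ⊗[k] Mm k A := Bialgebra.TensorProduct.map (BialgHom.id L L) (Fn k A n)

theorem πJ_surjective : Function.Surjective (πJ k A) := fun y => by
  induction y using TensorProduct.induction_on with
  | zero => exact ⟨0, map_zero _⟩
  | add p q hp hq =>
    obtain ⟨a, rfl⟩ := hp
    obtain ⟨b, rfl⟩ := hq
    exact ⟨a + b, map_add _ _ _⟩
  | tmul s a =>
    obtain ⟨a, rfl⟩ := Ideal.Quotient.mk_surjective a
    exact ⟨s ⊗ₜ[k] a, rfl⟩

theorem FnL_eq (n : ℕ) (z : L ⊗[k] A) :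
    FnL k A n z = SGA3b.powConv L (L ⊗[k] Mm k A) n (πJ k A z) := by
  induction z using TensorProduct.induction_on with
  | zero => simp
  | add p q hp hq => simp only [map_add, hp, hq]
  | tmul s a =>
    have h2 : s ⊗ₜ[k] a = s • ((1 : L) ⊗ₜ[k] a) := by rw [TensorProduct.smul_tmul', smul_eq_mul, mul_one]
    rw [h2, map_smul, map_smul, map_smul]
    refine congrArg (s • ·) ?_
    show (1 : L) ⊗ₜ[k] Fn k A n a = SGA3b.powConv L (L ⊗[k] Mm k A) n ((1 : L) ⊗ₜ[k] Ideal.Quotient.mk (J k A) a)
    rw [Groth.L25.MultType.powConv_baseChange, Fn_apply]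

theorem exists_diag [Algebra.FiniteType k A] :
    ∃ (X : Type u) (_ : CommGroup X), Group.FG X ∧ Nonempty (L ⊗[k] Mm k A ≃ₐc[L] MonoidAlgebra L X) := by
  let π := πJ k A
  let f : MonoidAlgebra L (GroupLike L (L ⊗[k] Mm k A)) →ₐc[L] L ⊗[k] Mm k A := MonoidAlgebra.liftGroupLikeBialgHom
  haveI : Algebra.FiniteType k (Mm k A) :=
    Algebra.FiniteType.of_surjective (Ideal.Quotient.mkₐ k _) Ideal.Quotient.mk_surjective
  haveI : Algebra.FiniteType L (L ⊗[k] Mm k A) := Algebra.FiniteType.baseChange L
  have hfg : Group.FG (GroupLike L (L ⊗[k] Mm k A)) := Groth.L08.TorusQuot.groupLike_fg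
  have hinj : Function.Injective f := Groth.L08.TorusQuot.liftGroupLike_injective
  have hsurj : Function.Surjective f := fun y => by
    obtain ⟨x, rfl⟩ := πJ_surjective k A y
    have hmem : x ∈ Groth.L25.LargestMult.M L (L ⊗[k] A) :=
      Groth.L25.LargestMult.eq_top_M (k := L) (A := L ⊗[k] A) ▸ Submodule.mem_top
    induction hmem using Submodule.span_induction with
    | zero => exact ⟨0, by rw [map_zero, map_zero]⟩
    | add a b _ _ ha hb =>
      obtain ⟨p, hp⟩ := ha
      obtain ⟨q, hq⟩ := hb
      exact ⟨p + q, by rw [map_add, map_add, hp, hq]⟩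
    | smul r a _ ha =>
      obtain ⟨p, hp⟩ := ha
      exact ⟨r • p, by rw [map_smul, map_smul, hp]⟩
    | mem z hz =>
      obtain ⟨g, n, v, hv, rfl⟩ := hz
      refine ⟨MonoidAlgebra.single (⟨π g.val, g.isGroupLikeElem_val.map π⟩ : GroupLike L (L ⊗[k] Mm k A))
        (Coalgebra.counit (R := L) v), ?_⟩
      have h := Groth.L25.LargestMult.N_baseChange_le (K := L) n hv
      have hπv : π v = Coalgebra.counit (R := L) v • 1 := by
        clear hv
        rw [Submodule.baseChange_eq_span] at h
        induction h using Submodule.span_induction with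
        | zero => simp
        | add a b _ _ ha hb => rw [map_add, ha, hb, map_add, add_smul]
        | smul r a _ ha => rw [map_smul, ha, map_smul, smul_eq_mul, mul_smul]
        | mem z hz =>
          obtain ⟨w, hw, rfl⟩ := hz
          show (1 : L) ⊗ₜ[k] Ideal.Quotient.mk (J k A) w = Coalgebra.counit (R := L) ((1 : L) ⊗ₜ[k] w) • 1
          rw [show Ideal.Quotient.mk (J k A) w = algebraMap k (Mm k A) (Coalgebra.counit (R := k) w) from
              Groth.L25.LargestMult.mk_J_eq (Groth.L25.LargestMult.mem_B.2 ⟨n, hw⟩),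
            TensorProduct.counit_tmul, CommSemiring.counit_apply, Algebra.algebraMap_eq_smul_one,
            TensorProduct.tmul_smul, ← Algebra.TensorProduct.one_def, smul_assoc, one_smul]
      rw [map_mul π g.val, hπv, mul_smul_comm, mul_one]
      simp [f, MonoidAlgebra.liftGroupLikeBialgHom]
  exact ⟨_, inferInstance, hfg, ⟨(BialgEquiv.ofBijective f ⟨hinj, hsurj⟩).symm⟩⟩

theorem exists_exponent (X : Type u) [CommGroup X] [Group.FG X] :
    ∃ n : ℕ, 0 < n ∧ ∀ x : X, IsOfFinOrder x → x ^ n = 1 := by
  haveI : Module.Finite ℤ (Additive X) := Module.Finite.iff_addGroup_fg.2 (GroupFG.iff_add_fg.1 inferInstance)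
  let T := (AddCommGroup.torsion (Additive X))
  haveI : Module.Finite ℤ T.toIntSubmodule := Module.Finite.iff_fg.2 (IsNoetherian.noetherian _)
  haveI : AddGroup.FG T := Module.Finite.iff_addGroup_fg.1 (inferInstanceAs (Module.Finite ℤ T.toIntSubmodule))
  haveI : Finite T := AddCommGroup.finite_of_fg_torsion T fun x => by
    have hx : IsOfFinAddOrder (x : Additive X) := x.2
    rw [isOfFinAddOrder_iff_nsmul_eq_zero] at hx ⊢
    obtain ⟨m, hm, h⟩ := hx
    exact ⟨m, hm, Subtype.ext h⟩
  refine ⟨Nat.card T, Nat.card_pos, fun x hx => ?_⟩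
  have h := card_nsmul_eq_zero' (x := (⟨Additive.ofMul x, isOfFinAddOrder_ofMul_iff.2 hx⟩ : T))
  exact congrArg (fun t : T => Additive.toMul (t : Additive X)) h

end Groth.L07.Almost
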