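import Groth.Agent.L07.Almost.Limit
import Groth.Agent.L07.ExtShAff.Prim
import Groth.Agent.L07.DDAff.CharZero
import Mathlib.Algebra.DualNumber
import Mathlib.RingTheory.DualNumber
import Mathlib.RingTheory.Nilpotent.Exp
import Mathlib.RingTheory.PowerSeries.Inverse
import Mathlib.Algebra.Polynomial.Basis

/-!
# Primitive elements of a group with representable dual
-/

universe u

open CategoryTheory AlgebraicGeometry TensorProduct Polynomial
open Groth.L07.ExtShAff (ev1 mulPt)
open Groth.L25.Bridge (P)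
open Groth.L01.SmoothKer (IsPrim)

set_option autoImplicit false
set_option backward.isDefEq.respectTransparency false
set_option linter.style.haveILetI false
set_option maxHeartbeats 1000000
set_option synthInstance.maxHeartbeats 200000
set_option maxSynthPendingDepth 6

noncomputable section

namespace Groth.L07.Almost

local notation "Kf" => Scheme.fppfPrecoverage

variable {k : Type u} [Field k] {A : Type u} [CommRing A] [HopfAlgebra k A] [Coalgebra.IsCocomm k A]

local notation "Sk" => Spec (CommRingCat.of k)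

theorem subsingleton_spec_Rq {S : Type u} [CommRing S] (h : ∀ s : S, IsUnit s ∨ IsNilpotent s) (n : ℕ) :
    Subsingleton (PrimeSpectrum (Rq S n)) := by
  have hz : ∀ z : Rq S n, IsUnit z ∨ IsNilpotent z := fun z => by
    obtain ⟨f, rfl⟩ := Ideal.Quotient.mk_surjective z
    rcases h (PowerSeries.constantCoeff f) with hu | hn
    · exact Or.inl ((PowerSeries.isUnit_iff_constantCoeff.2 hu).map _)
    · refine Or.inr ?_
      obtain ⟨g, hg⟩ : ∃ g, f = PowerSeries.C (PowerSeries.constantCoeff f) + PowerSeries.X * g :=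
        ⟨_, by rw [add_comm]; exact PowerSeries.eq_X_mul_shift_add_const f⟩
      rw [hg, map_add, map_mul]
      refine (Commute.all _ _).isNilpotent_add ((hn.map PowerSeries.C).map _) ?_
      refine (Commute.all _ _).isNilpotent_mul_right ⟨n + 1, ?_⟩
      rw [← map_pow, Ideal.Quotient.eq_zero_iff_mem]
      exact Ideal.subset_span rfl
  refine ⟨fun P Q => PrimeSpectrum.ext (Ideal.ext fun z => ?_)⟩
  rcases hz z with hu | ⟨m, hm⟩
  · exact iff_of_false (fun hP => P.2.ne_top (Ideal.eq_top_of_isUnit_mem _ hP hu))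
      (fun hQ => Q.2.ne_top (Ideal.eq_top_of_isUnit_mem _ hQ hu))
  · exact iff_of_true (P.2.mem_of_pow_mem m (hm ▸ zero_mem _)) (Q.2.mem_of_pow_mem m (hm ▸ zero_mem _))

/-- linear forms on a tensor product take values in a fixed finite-dimensional subspace -/
theorem exists_fg_range {R : Type u} [CommRing R] [Algebra k R] (f : R ⊗[k] A) :
    ∃ V : Submodule k A, V.FG ∧ ∀ c : R →ₗ[k] k, TensorProduct.lid k A (c.rTensor A f) ∈ V := by
  classical
  obtain ⟨s, rfl⟩ := TensorProduct.exists_finset f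
  refine ⟨Submodule.span k ((s.image Prod.snd : Finset A) : Set A), ⟨_, rfl⟩, fun c => ?_⟩
  rw [map_sum, map_sum]
  refine Submodule.sum_mem _ fun p hp => ?_
  rw [LinearMap.rTensor_tmul, TensorProduct.lid_tmul]
  exact Submodule.smul_mem _ _ (Submodule.subset_span (Finset.mem_coe.2 (Finset.mem_image_of_mem _ hp)))

section Descend

variable {S : Type u} [CommRing S] [Algebra k S] (l : S →ₗ[k] k)

/-- the functional extracting a coefficient -/
def cf (m : ℕ) : PowerSeries S →ₗ[k] k := l ∘ₗ ((PowerSeries.coeff (R := S) m).restrictScalars k)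

/-- the functional extracting a coefficient, on the truncation -/
def cq (m : ℕ) : Rq S m →ₗ[k] k :=
  ((Xid S m).restrictScalars k).liftQ (cf l m) (fun f hf => by
    have hf' : f ∈ Xid S m := hf
    show l (PowerSeries.coeff m f) = 0
    rw [PowerSeries.X_pow_dvd_iff.1 (Ideal.mem_span_singleton.1 hf') m (Nat.lt_succ_self m), map_zero]) ∘ₗ
    (Submodule.Quotient.restrictScalarsEquiv k (Xid S m)).symm.toLinearMap

theorem cq_πq (m : ℕ) (f : PowerSeries S) : cq l m (πq k S m f) = l (PowerSeries.coeff m f) := rfl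

theorem eval_limit {f : PowerSeries S ⊗[k] A} {m : ℕ} {w : Rq S m ⊗[k] A}
    (h : Algebra.TensorProduct.map (πq k S m) (AlgHom.id k A) f = w) :
    TensorProduct.lid k A ((cf l m).rTensor A f) = TensorProduct.lid k A ((cq l m).rTensor A w) := by
  rw [← h]
  clear h
  induction f using TensorProduct.induction_on with
  | zero => simp
  | tmul r a =>
    rw [Algebra.TensorProduct.map_tmul, LinearMap.rTensor_tmul, LinearMap.rTensor_tmul, cq_πq]
    rfl
  | add x y hx hy => simp only [map_add, hx, hy]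

end Descend

variable (k A) in
/-- the primitive elements -/
def Pr : Submodule k A :=
  LinearMap.ker ((Coalgebra.comul (R := k) (A := A)) - (TensorProduct.mk k A A).flip 1 - (TensorProduct.mk k A A) 1)

omit [Coalgebra.IsCocomm k A] in
theorem mem_Pr {g : A} : g ∈ Pr k A ↔ IsPrim (k := k) g := by
  simp [Pr, IsPrim, sub_sub, sub_eq_zero]

/-- **primitives span a finite-dimensional space** if the dual is representable -/
theorem fg_Pr (D : Over Sk) [GrpObj D] [IsCommMonObj D]
    (e : CGrpSh.pts Kf D ≅ CGrpSh2.dualSh Kf (CGrpSh.pts Kf (P k A))) : (Pr k A).FG := by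
  classical
  by_contra hne
  haveI : ¬ Module.Finite k (Pr k A) := fun h => hne ((Submodule.fg_top _).1 h.fg_top)
  obtain ⟨y, hy⟩ : ∃ y : ℕ → Pr k A, LinearIndependent k y := by
    let b := Module.Basis.ofVectorSpace k (Pr k A)
    haveI : Infinite (Module.Basis.ofVectorSpaceIndex k (Pr k A)) := not_finite_iff_infinite.1 fun hf =>
      this (Module.Finite.of_basis b)
    exact ⟨fun i => b (Infinite.natEmbedding _ i), b.linearIndependent.comp _ (Infinite.natEmbedding _).injective⟩
  have hS : ∀ s : (DualNumber k), IsUnit s ∨ IsNilpotent s := fun s => by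
    by_cases h : TrivSqZeroExt.fst s = 0
    · exact Or.inr ⟨2, by rw [pow_two]; exact TrivSqZeroExt.ext (by simp [h]) (by simp [h])⟩
    · exact Or.inl (TrivSqZeroExt.isUnit_iff_isUnit_fst.2 (IsUnit.mk0 _ h))
  haveI : Subsingleton (PrimeSpectrum (DualNumber k)) := ⟨fun P Q => PrimeSpectrum.ext (Ideal.ext fun z => by
    rcases hS z with hu | ⟨m, hm⟩
    · exact iff_of_false (fun hP => P.2.ne_top (Ideal.eq_top_of_isUnit_mem _ hP hu))
        (fun hQ => Q.2.ne_top (Ideal.eq_top_of_isUnit_mem _ hQ hu))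
    · exact iff_of_true (P.2.mem_of_pow_mem m (hm ▸ zero_mem _)) (Q.2.mem_of_pow_mem m (hm ▸ zero_mem _)))⟩
  let r : ∀ n, ℕ → Rq (DualNumber k) n := fun n j => πq k (DualNumber k) n (PowerSeries.C (DualNumber.eps : (DualNumber k)) * PowerSeries.X ^ j)
  have hrr : ∀ n i j, r n i * r n j = 0 := fun n i j => by
    rw [← map_mul, mul_mul_mul_comm, ← map_mul, DualNumber.eps_mul_eps, map_zero, zero_mul, map_zero]
  let T : ∀ n, Rq (DualNumber k) n ⊗[k] A := fun n => ∑ j ∈ Finset.range (n + 1), r n j ⊗ₜ[k] (y j : A)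
  have hT : ∀ n, T n * T n = 0 := fun n => by
    rw [Finset.sum_mul_sum]
    refine Finset.sum_eq_zero fun i _ => Finset.sum_eq_zero fun j _ => ?_
    rw [Algebra.TensorProduct.tmul_mul_tmul, hrr, zero_tmul]
  let u : ∀ n, (Rq (DualNumber k) n ⊗[k] A)ˣ := fun n => Units.mkOfMulEqOne (1 + T n) (1 - T n) (by
    rw [show (1 + T n) * (1 - T n) = 1 - T n * T n by ring, hT, sub_zero])
  have hu : ∀ n, IsCharUnit k A (u n : Rq (DualNumber k) n ⊗[k] A) := fun n B _ _ φ x z => by
    show ev1 φ (mulPt x z) (1 + T n) = ev1 φ x (1 + T n) * ev1 φ z (1 + T n)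
    have hv : ∀ w : A →ₐ[k] B, ev1 φ w (1 + T n) = 1 + ∑ j ∈ Finset.range (n + 1), φ (r n j) * w (y j) := fun w => by
      rw [map_add, map_one, map_sum]
      simp [Algebra.TensorProduct.lift_tmul]
    rw [hv, hv, hv, add_mul, one_mul, mul_add, mul_one, Finset.sum_mul_sum,
      Finset.sum_eq_zero (f := fun i => ∑ j ∈ Finset.range (n + 1), _) fun i _ => Finset.sum_eq_zero fun j _ => ?_,
      add_zero, add_assoc, ← Finset.sum_add_distrib]
    · refine congrArg (1 + ·) (Finset.sum_congr rfl fun j _ => ?_)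
      rw [Groth.L07.ExtShAff.mulPt_prim (mem_Pr.1 (y j).2), mul_add, add_comm]
    · rw [mul_mul_mul_comm, ← map_mul, hrr, map_zero, zero_mul]
  have hc : ∀ n, Algebra.TensorProduct.map (tq k (DualNumber k) n) (AlgHom.id k A) (u (n + 1)) = u n := fun n => by
    show Algebra.TensorProduct.map (tq k (DualNumber k) n) (AlgHom.id k A) (1 + T (n + 1)) = 1 + T n
    rw [map_add, map_one, map_sum, Finset.sum_range_succ]
    have h0 : Algebra.TensorProduct.map (tq k (DualNumber k) n) (AlgHom.id k A) (r (n + 1) (n + 1) ⊗ₜ[k] (y (n + 1) : A)) = 0 := by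
      rw [Algebra.TensorProduct.map_tmul]
      have : tq k (DualNumber k) n (r (n + 1) (n + 1)) = 0 :=
        Ideal.Quotient.eq_zero_iff_mem.2 (Ideal.mul_mem_left _ _ (Ideal.subset_span rfl))
      rw [this, zero_tmul]
    rw [h0, add_zero]
    exact congrArg (1 + ·) (Finset.sum_congr rfl fun j _ => rfl)
  obtain ⟨f, hf⟩ := exists_limit_unit (subsingleton_spec_Rq hS) D e u hu hc
  obtain ⟨V, hV, hfV⟩ := exists_fg_range f
  have hyV : ∀ m, (y m : A) ∈ V := fun m => by
    let l : (DualNumber k) →ₗ[k] k := TrivSqZeroExt.sndHom k k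
    have h := hfV (cf l m)
    rw [eval_limit l (hf m)] at h
    have hq : ∀ j, j ≤ m → cq l m (r m j) = if m = j then 1 else 0 := fun j hj => by
      rw [cq_πq, PowerSeries.coeff_C_mul, PowerSeries.coeff_X_pow]
      split_ifs <;> simp [l]
    have he : TensorProduct.lid k A ((cq l m).rTensor A (1 + T m)) = (y m : A) := by
      rw [map_add, map_add, map_sum, map_sum, Algebra.TensorProduct.one_def, LinearMap.rTensor_tmul,
        TensorProduct.lid_tmul, show cq l m (1 : Rq (DualNumber k) m) = 0 from ?_, zero_smul, zero_add, Finset.sum_eq_single m]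
      · rw [LinearMap.rTensor_tmul, TensorProduct.lid_tmul, hq m le_rfl, if_pos rfl, one_smul]
      · intro j hj hjm
        rw [LinearMap.rTensor_tmul, TensorProduct.lid_tmul, hq j (Nat.lt_succ_iff.1 (Finset.mem_range.1 hj)),
          if_neg (Ne.symm hjm), zero_smul]
      · intro h
        exact absurd (Finset.mem_range.2 (Nat.lt_succ_self m)) h
      · rw [← map_one (πq k (DualNumber k) m), cq_πq, PowerSeries.coeff_one]
        split_ifs <;> simp [l]
    rw [← he]
    exact h
  haveI : Module.Finite k V := Module.Finite.iff_fg.2 hV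
  have hli : LinearIndependent k fun m => (⟨(y m : A), hyV m⟩ : V) :=
    LinearIndependent.of_comp V.subtype (hy.map' (Pr k A).subtype (Submodule.ker_subtype _))
  haveI := hli.finite
  exact _root_.not_finite ℕ

variable [CharZero k]

/-- **in characteristic zero there are no primitives** if the dual is representable -/
theorem prim_eq_zero (D : Over Sk) [GrpObj D] [IsCommMonObj D]
    (e : CGrpSh.pts Kf D ≅ CGrpSh2.dualSh Kf (CGrpSh.pts Kf (P k A))) (g : A) (hg : IsPrim (k := k) g) :
    g = 0 := by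
  classical
  by_contra hne
  have hS : ∀ s : k, IsUnit s ∨ IsNilpotent s := fun s =>
    (eq_or_ne s 0).symm.imp (IsUnit.mk0 s) fun h => by rw [h]; exact IsNilpotent.zero
  letI algQ : ∀ (R : Type u) [CommRing R] [Algebra k R], Algebra ℚ R := fun R _ _ =>
    ((algebraMap k R).comp (Rat.castHom k)).toAlgebra
  letI := fun n => algQ (Rq k n ⊗[k] A)
  let z : ∀ n, Rq k n := fun n => πq k k n PowerSeries.X
  have hzn : ∀ n, z n ^ (n + 1) = 0 := fun n => by
    rw [← map_pow, Ideal.Quotient.mkₐ_eq_mk, Ideal.Quotient.eq_zero_iff_mem]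
    exact Ideal.subset_span rfl
  have hN : ∀ n, (z n ⊗ₜ[k] g) ^ (n + 1) = 0 := fun n => by
    rw [Algebra.TensorProduct.tmul_pow, hzn, zero_tmul]
  let u : ∀ n, (Rq k n ⊗[k] A)ˣ := fun n => (IsNilpotent.isUnit_exp ⟨_, hN n⟩).unit
  have hu : ∀ n, IsCharUnit k A (u n : Rq k n ⊗[k] A) := fun n B _ _ φ x y => by
    letI := algQ B
    show ev1 φ (mulPt x y) (IsNilpotent.exp (z n ⊗ₜ[k] g)) =
      ev1 φ x (IsNilpotent.exp (z n ⊗ₜ[k] g)) * ev1 φ y (IsNilpotent.exp (z n ⊗ₜ[k] g))
    rw [IsNilpotent.map_exp ⟨_, hN n⟩, IsNilpotent.map_exp ⟨_, hN n⟩, IsNilpotent.map_exp ⟨_, hN n⟩,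
      ← IsNilpotent.exp_add_of_commute (Commute.all _ _) (⟨_, hN n⟩ |> fun h : IsNilpotent (z n ⊗ₜ[k] g) => h.map _)
        (⟨_, hN n⟩ |> fun h : IsNilpotent (z n ⊗ₜ[k] g) => h.map _)]
    refine congrArg IsNilpotent.exp ?_
    rw [Algebra.TensorProduct.lift_tmul, Algebra.TensorProduct.lift_tmul, Algebra.TensorProduct.lift_tmul,
      Groth.L07.ExtShAff.mulPt_prim hg, mul_add]
  have hc : ∀ n, Algebra.TensorProduct.map (tq k k n) (AlgHom.id k A) (u (n + 1)) = u n := fun n => by
    show Algebra.TensorProduct.map (tq k k n) (AlgHom.id k A) (IsNilpotent.exp (z (n + 1) ⊗ₜ[k] g)) = IsNilpotent.exp _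
    rw [IsNilpotent.map_exp ⟨_, hN (n + 1)⟩]
    rfl
  haveI : Subsingleton (PrimeSpectrum k) := inferInstance
  obtain ⟨f, hf⟩ := exists_limit_unit (subsingleton_spec_Rq hS) D e u hu hc
  obtain ⟨V, hV, hfV⟩ := exists_fg_range f
  have hgV : ∀ m : ℕ, g ^ m ∈ V := fun m => by
    have h := hfV (cf (LinearMap.id : k →ₗ[k] k) m)
    rw [eval_limit _ (hf m)] at h
    have he : TensorProduct.lid k A ((cq (LinearMap.id : k →ₗ[k] k) m).rTensor A (u m)) =
        (m.factorial : k)⁻¹ • g ^ m := by
      show TensorProduct.lid k A ((cq _ m).rTensor A (IsNilpotent.exp (z m ⊗ₜ[k] g))) = _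
      rw [IsNilpotent.exp_eq_sum (hN m), map_sum, map_sum, Finset.sum_eq_single m]
      · rw [← algebraMap_smul k ((m.factorial : ℚ)⁻¹), map_smul, map_smul, Algebra.TensorProduct.tmul_pow,
          LinearMap.rTensor_tmul, TensorProduct.lid_tmul, ← map_pow, cq_πq, PowerSeries.coeff_X_pow_self]
        simp
      · intro j _ hjm
        rw [← algebraMap_smul k ((j.factorial : ℚ)⁻¹), map_smul, map_smul, Algebra.TensorProduct.tmul_pow,
          LinearMap.rTensor_tmul, TensorProduct.lid_tmul, ← map_pow, cq_πq, PowerSeries.coeff_X_pow, if_neg (Ne.symm hjm)]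
        simp
      · intro h
        exact absurd (Finset.mem_range.2 (Nat.lt_succ_self m)) h
    rw [he] at h
    have hm : (m.factorial : k) ≠ 0 := Nat.cast_ne_zero.2 (Nat.factorial_ne_zero m)
    have := V.smul_mem (m.factorial : k) h
    rwa [smul_inv_smul₀ hm] at this
  haveI : Module.Finite k V := Module.Finite.iff_fg.2 hV
  have hinj := Groth.L07.DDAff.aeval_injective_of_prim hg hne
  have hli : LinearIndependent k fun m : ℕ => g ^ m := by
    have h := (Polynomial.basisMonomials k).linearIndependent.map' (aeval g : k[X] →ₐ[k] A).toLinearMap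
      (LinearMap.ker_eq_bot.2 hinj)
    have he : (fun m : ℕ => g ^ m) =
        (aeval g : k[X] →ₐ[k] A).toLinearMap ∘ (Polynomial.basisMonomials k : ℕ → k[X]) := funext fun m => by
      simp [Polynomial.coe_basisMonomials, Polynomial.aeval_monomial]
    rw [he]
    exact h
  have hli' : LinearIndependent k fun m => (⟨g ^ m, hgV m⟩ : V) := LinearIndependent.of_comp V.subtype hli
  haveI := hli'.finite
  exact _root_.not_finite ℕ

end Groth.L07.Almost
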