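import Groth.Agent.L07.Almost.Mult
import Groth.Agent.L25.LargestMult.Split
import Groth.Agent.L01.NormalHopf
import Groth.Agent.L24.TorusField.Hopf
import Groth.Agent.L08.SekSuwa.SpecKernel
import Groth.Agent.L01.Unip.SepTrig
import Groth.Agent.L25.HopfFlat
import Mathlib.LinearAlgebra.Dimension.Constructions

/-!
# An almost torus from a finite unipotent component
-/

universe u

open CategoryTheory AlgebraicGeometry TensorProduct WithConv
open Groth.L25.LargestMult (N comp B J)
open Groth.L25.Bridge (P)
open Groth.L08.TorusQuot (sp sp_left)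

set_option autoImplicit false
set_option backward.isDefEq.respectTransparency false
set_option backward.isDefEq.respectTransparency.types false
set_option linter.style.haveILetI false
set_option maxHeartbeats 1000000
set_option synthInstance.maxHeartbeats 200000
set_option maxSynthPendingDepth 4

noncomputable section

namespace Groth.L07.Almost

variable {k : Type u} [Field k] {A : Type u} [CommRing A] [HopfAlgebra k A] [Coalgebra.IsCocomm k A]

local notation "L" => AlgebraicClosure k

theorem powConv_mapDomain {X : Type u} [CommGroup X] (n : ℕ) (z : MonoidAlgebra L X) :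
    SGA3b.powConv L (MonoidAlgebra L X) n z = MonoidAlgebra.mapDomainBialgHom L (powMonoidHom n : X →* X) z := by
  induction z using MonoidAlgebra.induction_linear with
  | zero => simp
  | add a b ha hb => simp only [map_add, ha, hb]
  | single x c =>
    have h : (MonoidAlgebra.single x c : MonoidAlgebra L X) = c • MonoidAlgebra.single x 1 := by
      rw [MonoidAlgebra.smul_single, smul_eq_mul, mul_one]
    rw [h, map_smul, map_smul,
      Groth.L25.MultType.powConv_groupLike (MonoidAlgebra.isGroupLikeElem_single_one x), MonoidAlgebra.single_pow,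
      one_pow]
    refine congrArg (c • ·) ?_
    simp


/-- the power map in characters -/
def piX (n : ℕ) (X : Type u) [CommGroup X] (d : L ⊗[k] Mm k A ≃ₐc[L] MonoidAlgebra L X) : L ⊗[k] A →ₐc[L] MonoidAlgebra L X := (d.toBialgHom).comp (FnL k A n)

theorem piX_eq (n : ℕ) (X : Type u) [CommGroup X] (d : L ⊗[k] Mm k A ≃ₐc[L] MonoidAlgebra L X) (z : L ⊗[k] A) :
    piX n X d z = MonoidAlgebra.mapDomainBialgHom L (powMonoidHom n : X →* X) (d (πJ k A z)) := by
  show d (FnL k A n z) = _
  rw [FnL_eq, ← powConv_mapDomain]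
  exact Groth.L25.MultType.map_powConv d.toBialgHom n _

/-- the power map kills the torus kernel exactly -/
theorem nonempty_torus_equiv (n : ℕ) (X : Type u) [CommGroup X] (d : L ⊗[k] Mm k A ≃ₐc[L] MonoidAlgebra L X) :
    Nonempty (L ⊗[k] (A ⧸ In k A n) ≃ₐc[L] MonoidAlgebra L (powMonoidHom n : X →* X).range) := by
  let h : L ⊗[k] (A ⧸ In k A n) →ₐc[L] MonoidAlgebra L X :=
    (d.toBialgHom).comp (Bialgebra.TensorProduct.map (BialgHom.id L L) (Fbar k A n))
  have hh : Function.Injective h := fun a b e => by
    have h1 : LinearMap.lTensor L (Fbar k A n : A ⧸ In k A n →ₗ[k] Mm k A) a =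
        LinearMap.lTensor L (Fbar k A n : A ⧸ In k A n →ₗ[k] Mm k A) b := by
      have e' := d.toEquiv.injective e
      have hc : ∀ w, Bialgebra.TensorProduct.map (BialgHom.id L L) (Fbar k A n) w =
          LinearMap.lTensor L (Fbar k A n : A ⧸ In k A n →ₗ[k] Mm k A) w := fun w => by
        induction w using TensorProduct.induction_on with
        | zero => simp
        | add p q hp hq => simp only [map_add, hp, hq]
        | tmul p q => rfl
      exact (hc a).symm.trans (e'.trans (hc b))
    exact Module.Flat.lTensor_preserves_injective_linearMap _ (Fbar_injective k A n) h1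
  let q : L ⊗[k] A →ₐc[L] L ⊗[k] (A ⧸ In k A n) :=
    Bialgebra.TensorProduct.map (BialgHom.id L L) (Bialgebra.Quotient.mkBialgHom (In k A n))
  have hq : ∀ z, h (q z) = piX n X d z := fun z => by
    induction z using TensorProduct.induction_on with
    | zero => simp
    | add p r hp hr => simp only [map_add, hp, hr]
    | tmul s a => rfl
  let ι : MonoidAlgebra L (powMonoidHom n : X →* X).range →ₐc[L] MonoidAlgebra L X :=
    MonoidAlgebra.mapDomainBialgHom L (powMonoidHom n : X →* X).range.subtype
  have hι : Function.Injective ι := MonoidAlgebra.mapDomain_injective (powMonoidHom n : X →* X).range.subtype_injective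
  have hpre : ∀ y : (powMonoidHom n : X →* X).range, ∃ z, h z = MonoidAlgebra.single (y : X) 1 := fun y => by
    obtain ⟨x, hx⟩ := y.2
    obtain ⟨w, hw⟩ := πJ_surjective k A (d.symm (MonoidAlgebra.single x 1))
    refine ⟨q w, ?_⟩
    rw [hq, piX_eq, hw, BialgEquiv.apply_symm_apply]
    simp [hx]
  choose z hz using hpre
  have hzg : ∀ y, IsGroupLikeElem L (z y) := fun y => by
    refine ⟨?_, ?_⟩
    · rw [← CoalgHomClass.counit_comp_apply h (z y), hz]
      exact (MonoidAlgebra.isGroupLikeElem_single_one (R := L) (A := L) (y : X)).counit_eq_one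
    · let hl : L ⊗[k] (A ⧸ In k A n) →ₗ[L] MonoidAlgebra L X := (h : L ⊗[k] (A ⧸ In k A n) →ₗ[L] MonoidAlgebra L X)
      have hh' : Function.Injective hl := hh
      refine TensorProduct.map_injective_of_flat_flat hl hl hh' hh' ?_
      rw [TensorProduct.map_tmul]
      refine (CoalgHomClass.map_comp_comul_apply h (z y)).trans ?_
      rw [show ((h : L ⊗[k] (A ⧸ In k A n) →ₗ[L] MonoidAlgebra L X) (z y)) = MonoidAlgebra.single (y : X) 1 from hz y, hz y]
      exact (MonoidAlgebra.isGroupLikeElem_single_one (R := L) (A := L) (y : X)).comul_eq_tmul_self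
  let ρ : (powMonoidHom n : X →* X).range →* GroupLike L (L ⊗[k] (A ⧸ In k A n)) :=
    { toFun := fun y => ⟨z y, hzg y⟩
      map_one' := GroupLike.val_injective (hh (by
        show h (z 1) = h (1 : L ⊗[k] (A ⧸ In k A n))
        rw [hz, map_one]
        rfl))
      map_mul' := fun a b => GroupLike.val_injective (hh (by
        show h (z (a * b)) = h (z a * z b)
        rw [map_mul, hz, hz, hz, MonoidAlgebra.single_mul_single, mul_one]
        rfl)) }
  let g : MonoidAlgebra L (powMonoidHom n : X →* X).range →ₐc[L] L ⊗[k] (A ⧸ In k A n) :=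
    MonoidAlgebra.liftGroupLikeBialgHom.comp (MonoidAlgebra.mapDomainBialgHom L ρ)
  have hg : ∀ w, h (g w) = ι w := fun w => by
    induction w using MonoidAlgebra.induction_linear with
    | zero => simp
    | add a b ha hb => simp only [map_add, ha, hb]
    | single y c =>
      have e : (MonoidAlgebra.single y c : MonoidAlgebra L (powMonoidHom n : X →* X).range) =
          c • MonoidAlgebra.single y 1 := by rw [MonoidAlgebra.smul_single, smul_eq_mul, mul_one]
      rw [e, map_smul, map_smul, map_smul]
      refine congrArg (c • ·) ?_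
      have : g (MonoidAlgebra.single y 1) = z y := by
        simp [g, MonoidAlgebra.liftGroupLikeBialgHom, ρ]
      rw [this, hz]
      simp [ι]
  refine ⟨(BialgEquiv.ofBijective g ⟨fun a b e => hι (by rw [← hg, ← hg, e]), fun w => ?_⟩).symm⟩
  obtain ⟨v, rfl⟩ : ∃ v, q v = w := by
    induction w using TensorProduct.induction_on with
    | zero => exact ⟨0, map_zero _⟩
    | add p r hp hr =>
      obtain ⟨a, rfl⟩ := hp
      obtain ⟨b, rfl⟩ := hr
      exact ⟨a + b, map_add _ _ _⟩
    | tmul s a =>
      obtain ⟨a, rfl⟩ := Ideal.Quotient.mk_surjective a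
      exact ⟨s ⊗ₜ[k] a, rfl⟩
  refine ⟨MonoidAlgebra.mapDomainBialgHom L (powMonoidHom n : X →* X).rangeRestrict (d (πJ k A v)), hh ?_⟩
  rw [hg, hq, piX_eq]
  generalize d (πJ k A v) = m
  induction m using MonoidAlgebra.induction_linear with
  | zero => simp
  | add a b ha hb => simp only [map_add, ha, hb]
  | single x c => simp [ι]

/-- the power kernel is a torus -/
theorem isTorus (n : ℕ) (X : Type u) [CommGroup X] [Group.FG X] (hn : ∀ x : X, IsOfFinOrder x → x ^ n = 1) (hn0 : 0 < n)
    (e : L ⊗[k] (A ⧸ In k A n) ≃ₐc[L] MonoidAlgebra L (powMonoidHom n : X →* X).range) :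
    Red.IsTorus (P k (A ⧸ In k A n)) := by
  classical
  let Y := (powMonoidHom n : X →* X).range
  haveI : Module.Finite ℤ (Additive X) := Module.Finite.iff_addGroup_fg.2 (GroupFG.iff_add_fg.1 inferInstance)
  let f : Additive X →ₗ[ℤ] Additive Y :=
    ((powMonoidHom n : X →* X).rangeRestrict).toAdditive.toIntLinearMap
  haveI : Module.Finite ℤ (Additive Y) := Module.Finite.of_surjective f (fun y => by
    obtain ⟨x, hx⟩ := (powMonoidHom n : X →* X).rangeRestrict_surjective (Additive.toMul y)
    exact ⟨Additive.ofMul x, congrArg Additive.ofMul hx⟩)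
  haveI : IsMulTorsionFree Y := by
    refine ⟨fun m hm a b hab => div_eq_one.1 ?_⟩
    have h1 : (a / b) ^ m = 1 := by rw [div_pow, show a ^ m = b ^ m from hab, div_self']
    obtain ⟨x, hx⟩ := (a / b).2
    have h2 : IsOfFinOrder x := by
      refine isOfFinOrder_iff_pow_eq_one.2 ⟨n * m, Nat.mul_pos hn0 (Nat.pos_of_ne_zero hm), ?_⟩
      rw [pow_mul, show x ^ n = ((a / b : Y) : X) from hx, ← Subgroup.coe_pow, h1, Subgroup.coe_one]
    exact Subtype.ext (hx.symm.trans (hn x h2))
  haveI : Module.Free ℤ (Additive Y) := Module.free_of_finite_type_torsion_free'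
  let b := Module.finBasis ℤ (Additive Y)
  let r := Module.finrank ℤ (Additive Y)
  let eY : Y ≃* Multiplicative (Fin r → ℤ) :=
    AddEquiv.toMultiplicativeRight b.equivFun.toAddEquiv
  let θ := Spec.map (CommRingCat.ofHom (algebraMap k L))
  haveI : Flat θ := Flat.SpecMap_iff.2 (RingHom.flat_algebraMap_iff.2 inferInstance)
  haveI : Surjective θ := ⟨fun _ => ⟨IsLocalRing.closedPoint L, Subsingleton.elim (α := PrimeSpectrum k) _ _⟩⟩
  refine Groth.L08.Borel.isTorus_descend θ (fun V hV => ⟨θ ⁻¹ᵁ V, θ.isCompact_preimage hV.isCompact,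
    Set.image_preimage_eq (V : Set (Spec (CommRingCat.of k))) θ.surjective⟩) ?_
  exact Groth.L25.TorLift.isTorus_of_iso ((Groth.L25.Bridge.bcIso k (A ⧸ In k A n) L) ≪≫ (Groth.L25.Bridge.mapIso
    (e.trans (Groth.L25.Char.mapEquiv L eY))).symm).symm
    (Groth.L01.Unip.isTorus_P_fin L r)

end Groth.L07.Almost
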